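import Groth.Agent.AicVanishLib.Main
import Groth.Agent.CovDevLib.Devissage
import Groth.Agent.EtProperH0Lib.EffApps
import Groth.Agent.S3054
import Groth.Agent.S0122

/-!
# Gabber's affine analogue of proper base change

For a henselian pair `(A, I)` and a torsion sheaf, cohomology on `Spec A` and `Spec (A/I)` agree.
Constructible sheaves embed in sheaves with vanishing higher cohomology on both sides: direct images
of finite constant sheaves along integral morphisms from absolutely integrally closed affine schemes.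
-/

set_option autoImplicit false
set_option linter.unusedSectionVars false
set_option linter.style.haveILetI false
set_option backward.isDefEq.respectTransparency false
set_option backward.isDefEq.respectTransparency.types false
set_option synthInstance.maxHeartbeats 400000
set_option maxHeartbeats 1000000

universe u

open CategoryTheory CategoryTheory.Limits CategoryTheory.Abelian AlgebraicGeometry Opposite
open Groth.Agent Groth.Agent.EtShLib Groth.Agent.EtCompLib DescSecLib EtSliceLib EtAcycLib CovDevLib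

noncomputable section

namespace AicVanishLib

theorem bijective_mu_integral {X X' : Scheme.{u}} {p : X' ⟶ X} [IsIntegralHom p] (A : EtCoh.Ab X') (n : ℕ) :
    Function.Bijective (mu (p := p) A n) := by
  haveI : (EtCoh.push p).Additive := { }
  haveI : (EtCoh.pull p).Additive := { }
  haveI : (EtCoh.push p).IsRightAdjoint := (EtCoh.pullPushAdj p).isRightAdjoint
  haveI : (EtCoh.pull p).IsLeftAdjoint := (EtCoh.pullPushAdj p).isLeftAdjoint
  have hb := Groth.Agent.S14451.extAdj'_bijective (EtCoh.pullPushAdj p) (EtCoh.const X ℤ) n A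
    (fun m => Groth.Agent.S3054.result p A (m + 1) (by omega))
  have e : mu (p := p) A n = (fun z => (Ext.mk₀ (EtCore.pullConst p ℤ).inv).comp z (zero_add n)) ∘
      Groth.Agent.S14451.extAdj' (EtCoh.pullPushAdj p) (EtCoh.const X ℤ) A n := funext fun x => by
    show ((Ext.mk₀ (EtCore.pullConst p ℤ).inv).comp (Ext.mapExactFunctor (EtCoh.pull p) x) (zero_add n)).comp
      (Ext.mk₀ _) (add_zero n) = _
    rw [Ext.comp_assoc_of_third_deg_zero]
    rfl
  rw [e]
  exact (bijective_mk₀_iso_precomp (EtCore.pullConst p ℤ).symm n).comp hb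

/-- An affine scheme all of whose closed subschemes have acyclic finite constant sheaves. -/
def Killer (X : Scheme.{u}) : Prop :=
  ∀ (Z' : Scheme.{u}) (i : Z' ⟶ X) (_ : IsClosedImmersion i) (M : Type) (_ : AddCommGroup M) (_ : Finite M)
    (q : ℕ), 1 ≤ q → Subsingleton (EtCoh.H Z' (EtCoh.const Z' M) q)

variable {X Z : Scheme.{u}} (i : Z ⟶ X)

/-- A sheaf which is acyclic on `X` and on `Z`. -/
def BothAcyclic (E : EtCoh.Ab X) : Prop :=
  ∀ n : ℕ, Subsingleton (EtCoh.H X E (n + 1)) ∧ Subsingleton (EtCoh.H Z ((EtCoh.pull i).obj E) (n + 1))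

theorem bothAcyclic_push [IsClosedImmersion i] {W : Scheme.{u}} (hW : Killer W) (g : W ⟶ X) [IsIntegralHom g]
    (M : Type) [AddCommGroup M] [Finite M] : BothAcyclic i ((EtCoh.push g).obj (EtCoh.const W M)) := fun n => by
  constructor
  · haveI := hW W (𝟙 W) inferInstance M inferInstance inferInstance (n + 1) (by omega)
    exact (bijective_mu_integral (p := g) (EtCoh.const W M) (n + 1)).1.subsingleton
  · let p' := pullback.snd g i
    let h' := pullback.fst g i
    have hc : IsPullback h' p' g i := IsPullback.of_hasPullback g i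
    haveI : IsIntegralHom p' := MorphismProperty.of_isPullback hc ‹IsIntegralHom g›
    haveI : IsClosedImmersion h' := MorphismProperty.of_isPullback hc.flip ‹IsClosedImmersion i›
    haveI : IsIso (bcHom hc (EtCoh.const W M)) := by
      rw [bcHom_eq g i p' h' hc]
      exact EtProperH0Lib.isIso_baseChange0_of_strict hc _ fun B B' gB _ gB' _ κ _ P hP =>
        EtProperH0Lib.strictBij_of_closedFibre hP (EtProperH0Lib.closedFibreBij_of_integral hP) gB (gB' ≫ i) κ
    haveI := hW _ h' inferInstance M inferInstance inferInstance (n + 1) (by omega)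
    haveI : Subsingleton (EtCoh.H (pullback g i) ((EtCoh.pull h').obj (EtCoh.const W M)) (n + 1)) :=
      (bijective_mk₀_iso_postcomp (EtCore.pullConst h' M) (n + 1)).1.subsingleton
    exact ((bijective_mu_integral (p := p') ((EtCoh.pull h').obj (EtCoh.const W M)) (n + 1)).comp
      (bijective_mk₀_iso_postcomp (asIso (bcHom hc (EtCoh.const W M))) (n + 1))).1.subsingleton

theorem bothAcyclic_biproduct {k : ℕ} (T : Fin k → EtCoh.Ab X) (hT : ∀ j, BothAcyclic i (T j)) :
    BothAcyclic i (⨁ T) := fun n => by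
  haveI : (EtCoh.pull i).IsLeftAdjoint := (EtCoh.pullPushAdj i).isLeftAdjoint
  haveI : (EtCoh.pull i).Additive := { }
  have hsum : ∑ j, biproduct.π T j ≫ biproduct.ι T j = 𝟙 (⨁ T) := biproduct.total
  constructor <;> refine subsingleton_of_forall_eq 0 fun y => ?_
  · rw [show y = y.comp (Ext.mk₀ (𝟙 (⨁ T))) (add_zero _) from (Ext.comp_mk₀_id y).symm, ← hsum, Ext.mk₀_sum,
      Ext.comp_sum]
    refine Finset.sum_eq_zero fun j _ => ?_
    haveI := (hT j n).1
    rw [← Ext.mk₀_comp_mk₀, ← Ext.comp_assoc_of_second_deg_zero,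
      Subsingleton.elim (y.comp (Ext.mk₀ (biproduct.π T j)) (add_zero (n + 1))) 0, Ext.zero_comp]
  · rw [show y = y.comp (Ext.mk₀ ((EtCoh.pull i).map (𝟙 (⨁ T)))) (add_zero _) by
      rw [CategoryTheory.Functor.map_id]; exact (Ext.comp_mk₀_id y).symm, ← hsum, Functor.map_sum, Ext.mk₀_sum,
      Ext.comp_sum]
    refine Finset.sum_eq_zero fun j _ => ?_
    haveI := (hT j n).2
    rw [Functor.map_comp, ← Ext.mk₀_comp_mk₀, ← Ext.comp_assoc_of_second_deg_zero,
      Subsingleton.elim (y.comp (Ext.mk₀ ((EtCoh.pull i).map (biproduct.π T j))) (add_zero (n + 1))) 0,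
      Ext.zero_comp]

theorem app_nsmul {G G' : EtCoh.Ab X} (f : G ⟶ G') (d : ℕ) (U : X.Etale) (s : G.obj.obj (op U)) :
    (d • f).hom.app (op U) s = d • f.hom.app (op U) s := by
  induction d with
  | zero => rw [zero_smul, zero_smul]; rfl
  | succ d ih =>
    rw [succ_nsmul, succ_nsmul, ← ih]
    rfl

theorem torsionBy_of_nsmul {G : EtCoh.Ab X} {d : ℕ} (hd : 0 < d) (h : d • 𝟙 G = 0) :
    TorsionBy (fun m => 0 < m) G := fun Ω _ _ ξ p => by
  obtain ⟨U, u, s, rfl⟩ := exists_germ ξ p
  refine ⟨d, hd, ?_⟩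
  rw [← map_nsmul]
  have h0 : (d • 𝟙 G : G ⟶ G).hom.app (op U) s = d • s := app_nsmul (𝟙 G) d U s
  rw [← h0, h]
  exact map_zero _

theorem push_const_nsmul {W : Scheme.{u}} (g : W ⟶ X) (q : ℕ) :
    q • 𝟙 ((EtCoh.push g).obj (EtCoh.const W (ZMod q))) = 0 := by
  let C := AddCommGrpCat.of (ULift.{u + 1} (ZMod q))
  haveI : PreservesFiniteLimits (constantSheaf W.smallEtaleTopology AddCommGrpCat.{u + 1}) := by
    dsimp only [constantSheaf]
    infer_instance
  haveI : (constantSheaf W.smallEtaleTopology AddCommGrpCat.{u + 1}).Additive :=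
    Functor.additive_of_preserves_binary_products _
  haveI : (EtCoh.push g).Additive := { }
  have hC : q • 𝟙 C = 0 := by
    refine AddCommGrpCat.ext fun x => ?_
    show AddCommGrpCat.homAddEquiv (q • 𝟙 C) x = AddCommGrpCat.homAddEquiv (0 : C ⟶ C) x
    rw [map_nsmul, AddMonoidHom.nsmul_apply, map_zero, AddMonoidHom.zero_apply]
    refine ULift.ext _ _ ?_
    show q • x.down = 0
    rw [nsmul_eq_mul, ZMod.natCast_self, zero_mul]
  rw [show 𝟙 ((EtCoh.push g).obj (EtCoh.const W (ZMod q))) =
      (EtCoh.push g).map ((constantSheaf W.smallEtaleTopology AddCommGrpCat.{u + 1}).map (𝟙 C)) from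
    (((constantSheaf W.smallEtaleTopology AddCommGrpCat.{u + 1}) ⋙ EtCoh.push g).map_id C).symm,
    ← Functor.map_nsmul, ← Functor.map_nsmul, hC, Functor.map_zero, Functor.map_zero]

theorem mono_unit_of_surjective {W V : Scheme.{u}} (π : W ⟶ V) [Surjective π] (F : EtCoh.Ab V) :
    Mono ((EtCoh.pullPushAdj π).unit.app F) := by
  haveI : ∀ U, Mono (((EtCoh.pullPushAdj π).unit.app F).hom.app U) := fun U =>
    (AddCommGrpCat.mono_iff_injective _).2 (unit_injective (A := AddCommGrpCat.{u + 1}) π F U.unop)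
  haveI : Mono ((EtCoh.pullPushAdj π).unit.app F).hom := NatTrans.mono_of_mono_app _
  exact (sheafToPresheaf _ _).mono_of_mono_map (f := (EtCoh.pullPushAdj π).unit.app F)
    ‹Mono ((EtCoh.pullPushAdj π).unit.app F).hom›

theorem mono_push_unit {W V : Scheme.{u}} (π : W ⟶ V) [Surjective π] (f : V ⟶ X) (F : EtCoh.Ab V)
    {G : EtCoh.Ab W} (c : (EtCoh.pull π).obj F ≅ G) :
    Mono ((EtCoh.push f).map ((EtCoh.pullPushAdj π).unit.app F ≫ (EtCoh.push π).map c.hom) ≫
      (EtCoh.pushComp f π).hom.app G) := by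
  haveI := mono_unit_of_surjective π F
  haveI : (EtCoh.push f).IsRightAdjoint := (EtCoh.pullPushAdj f).isRightAdjoint
  infer_instance

theorem exists_embed_acyclic [IsAffine X] [IsClosedImmersion i] {G : EtCoh.Ab X}
    (hG : IsCons (A := AddCommGrpCat.{u + 1}) FinP G) :
    ∃ (E : EtCoh.Ab X) (u : G ⟶ E), Mono u ∧ BothAcyclic i E ∧ ∃ d, 0 < d ∧ d • 𝟙 E = 0 := by
  obtain ⟨N, hN, hNG⟩ := ConsEffaceLib.exists_nsmul_eq_zero hG
  obtain ⟨k, Y, f, hf, -, q, hq, -, ι, hι⟩ := exists_embed_cyclic moduli_pos (F := G) ⟨hG, N, hN, hNG⟩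
  haveI : ∀ j, IsAffine (Y j) := fun j => haveI := hf j; isAffine_of_isAffineHom (f j)
  choose W π hπi hπs hW using fun j => exists_cover (Y j)
  let T : Fin k → EtCoh.Ab X := fun j => (EtCoh.push (π j ≫ f j)).obj (EtCoh.const (W j) (ZMod (q j)))
  let v : ∀ j, (EtCoh.push (f j)).obj (EtCoh.const (Y j) (ZMod (q j))) ⟶ T j := fun j =>
    (EtCoh.push (f j)).map ((EtCoh.pullPushAdj (π j)).unit.app _ ≫
      (EtCoh.push (π j)).map (EtCore.pullConst (π j) (ZMod (q j))).hom) ≫ (EtCoh.pushComp (f j) (π j)).hom.app _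
  haveI : ∀ j, Mono (v j) := fun j => by
    haveI := hπs j
    exact mono_push_unit (π j) (f j) _ (EtCore.pullConst (π j) (ZMod (q j)))
  refine ⟨⨁ T, ι ≫ biproduct.map v, inferInstance, bothAcyclic_biproduct i T fun j => ?_,
    ∏ j, q j, Finset.prod_pos fun j _ => hq j, biproduct.hom_ext _ _ fun j => ?_⟩
  · haveI := hπi j
    haveI := hf j
    haveI : IsIntegralHom (π j ≫ f j) := inferInstance
    haveI : NeZero (q j) := ⟨(hq j).ne'⟩
    exact bothAcyclic_push i (hW j) _ _
  · rw [zero_comp, Preadditive.nsmul_comp, Category.id_comp]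
    exact nsmul_eq_zero_of_dvd (nsmul_hom_right (push_const_nsmul _ (q j)) _)
      (Finset.dvd_prod_of_mem q (Finset.mem_univ j))

/-- Comparison in degree `n` for all torsion sheaves. -/
def BijAt (n : ℕ) : Prop :=
  ∀ G : EtCoh.Ab X, TorsionBy (fun m => 0 < m) G → Function.Bijective (EtCore.Hpull i G n)

theorem bijective_cons_succ [IsAffine X] [IsClosedImmersion i] {n : ℕ} (h : BijAt i n) {G : EtCoh.Ab X}
    (hG : IsCons (A := AddCommGrpCat.{u + 1}) FinP G) : Function.Bijective (EtCore.Hpull i G (n + 1)) := by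
  obtain ⟨E, u, hu, hE, d, hd, hdE⟩ := exists_embed_acyclic i hG
  haveI := hu
  haveI : (EtCoh.pull i).IsLeftAdjoint := (EtCoh.pullPushAdj i).isLeftAdjoint
  haveI : (EtCoh.pull i).Additive := { }
  let S := ShortComplex.mk u (cokernel.π u) (cokernel.condition u)
  have hS : S.ShortExact := { exact := ShortComplex.exact_of_g_is_cokernel _ (cokernelIsCokernel _) }
  have hEt := torsionBy_of_nsmul hd hdE
  have hQ : TorsionBy (fun m => 0 < m) S.X₃ := torsionBy_of_nsmul hd (by
    rw [← cancel_epi (cokernel.π u), comp_zero, Preadditive.comp_nsmul, Category.comp_id]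
    exact nsmul_hom_left hdE _)
  haveI := (hE n).1
  haveI := (hE n).2
  constructor
  · refine (injective_iff_map_eq_zero _).2 fun x hx => ?_
    obtain ⟨c, rfl⟩ := Ext.covariant_sequence_exact₁ _ hS x (Subsingleton.elim (α := EtCoh.H X E (n + 1)) _ _)
      (n₀ := n) rfl
    obtain ⟨g', hg'⟩ := Ext.covariant_sequence_exact₃ _ (hS.map_of_exact (EtCoh.pull i))
      (EtCore.Hpull i S.X₃ n c) rfl ((Hpull_delta i hS c).symm.trans hx)
    obtain ⟨g, rfl⟩ := (h E hEt).2 g'
    have hc : g.comp (Ext.mk₀ S.g) (add_zero n) = c := (h S.X₃ hQ).1 ((Hpull_postcomp i S.g n g).trans hg')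
    rw [← hc, Ext.comp_assoc_of_second_deg_zero, ShortComplex.ShortExact.comp_extClass, Ext.comp_zero]
  · intro y
    obtain ⟨c', hc'⟩ := Ext.covariant_sequence_exact₁ _ (hS.map_of_exact (EtCoh.pull i)) (n₀ := n) y
      (Subsingleton.elim (α := EtCoh.H Z ((EtCoh.pull i).obj E) (n + 1)) _ _) rfl
    obtain ⟨c, rfl⟩ := (h S.X₃ hQ).2 c'
    exact ⟨c.comp hS.extClass rfl, (Hpull_delta i hS c).trans hc'⟩

theorem bijAt_succ [IsAffine X] [IsClosedImmersion i] {n : ℕ} (h : BijAt i n) : BijAt i (n + 1) := by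
  intro F hT
  haveI : IsAffine Z := isAffine_of_isAffineHom i
  haveI : (EtCoh.pull i).IsLeftAdjoint := (EtCoh.pullPushAdj i).isLeftAdjoint
  haveI := isFiltered_consOver F
  obtain ⟨hc⟩ := nonempty_isColimit_consCocone F hT
  haveI := preservesColimits_H (S := X) (n + 1) (ConsOver F)
  haveI := preservesColimits_H (S := Z) (n + 1) (ConsOver F)
  let EX := Abelian.extFunctorObj.{u + 1} (EtCoh.const X ℤ) (n + 1)
  let EZ := Abelian.extFunctorObj.{u + 1} (EtCoh.const Z ℤ) (n + 1)
  constructor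
  · refine (injective_iff_map_eq_zero _).2 fun x hx => ?_
    obtain ⟨p, xp, hxp⟩ := Concrete.isColimit_exists_rep _ (isColimitOfPreserves EX hc) x
    have hxp' : xp.comp (Ext.mk₀ ((consCocone F).ι.app p)) (add_zero (n + 1)) = x := hxp
    obtain ⟨r, a, hab⟩ := exists_stage_eq_zero (EtCoh.pull i) EZ hc (EtCore.Hpull i _ (n + 1) xp) (by
      show (EtCore.Hpull i _ (n + 1) xp).comp (Ext.mk₀ _) (add_zero (n + 1)) = 0
      rw [← Hpull_postcomp, hxp']
      exact hx)
    have hz : EtCore.Hpull i _ (n + 1) (xp.comp (Ext.mk₀ ((consDiagram F).map a)) (add_zero (n + 1))) = 0 := by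
      rw [Hpull_postcomp]
      exact hab
    have hz' := (bijective_cons_succ i h (PresOver.isCons (F := F) r)).1 (hz.trans (map_zero _).symm)
    rw [← hxp', ← (consCocone F).w a, ← Ext.mk₀_comp_mk₀, ← Ext.comp_assoc_of_second_deg_zero, hz', Ext.zero_comp]
  · intro y
    obtain ⟨p, yp, hyp⟩ := exists_rep_of_colimit (EtCoh.pull i) EZ hc y
    obtain ⟨x, rfl⟩ := (bijective_cons_succ i h (PresOver.isCons (F := F) p)).2 yp
    exact ⟨x.comp (Ext.mk₀ ((consCocone F).ι.app p)) (add_zero (n + 1)), (Hpull_postcomp i _ _ x).trans hyp⟩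

theorem mu_map_unit (F : EtCoh.Ab X) (n : ℕ) (x : EtCoh.H X F n) :
    mu ((EtCoh.pull i).obj F) n (Sheaf.H.map ((EtCoh.pullPushAdj i).unit.app F) n x) = EtCore.Hpull i F n x := by
  rw [mu, Sheaf.H.map_apply, Hpull_postcomp, Ext.comp_assoc_of_second_deg_zero, Ext.mk₀_comp_mk₀]
  erw [(EtCoh.pullPushAdj i).left_triangle_components]
  exact Ext.comp_mk₀_id _

theorem gabber_affine (A : Type u) [CommRing A] (I : Ideal A) [HenselianRing A I]
    (F : EtCoh.Ab (Spec (CommRingCat.of A))) (hF : EtCoh.IsTorsion F) (q : ℕ) :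
    Function.Bijective
      (Sheaf.H.map ((EtCoh.pullPushAdj (Spec.map (CommRingCat.ofHom (Ideal.Quotient.mk I)))).unit.app F) q) := by
  let i := Spec.map (CommRingCat.ofHom (Ideal.Quotient.mk I))
  haveI : IsClosedImmersion i := IsClosedImmersion.spec_of_surjective _ Ideal.Quotient.mk_surjective
  have conv : ∀ (G : EtCoh.Ab (Spec (CommRingCat.of A))) (n : ℕ), Function.Bijective (EtCore.Hpull i G n) ↔
      Function.Bijective (Sheaf.H.map ((EtCoh.pullPushAdj i).unit.app G) n) := fun G n => by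
    rw [← Function.Bijective.of_comp_iff' (bijective_mu (p := i) ((EtCoh.pull i).obj G) n)]
    exact iff_of_eq (congrArg Function.Bijective (funext fun x => (mu_map_unit i G n x).symm))
  have h0 : BijAt i 0 := fun G _ => (conv G 0).2 (by
    obtain ⟨hT⟩ := isTerminal_top (Spec (CommRingCat.of A))
    have := Groth.Agent.S0122.result A I G
    refine (Function.Bijective.of_comp_iff' (Sheaf.H.equiv₀ _ hT).bijective _).1 ?_
    refine (iff_of_eq (congrArg Function.Bijective (funext fun x =>
      (Sheaf.H.equiv₀_naturality hT ((EtCoh.pullPushAdj i).unit.app G) x).symm))).2 ?_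
    exact this.comp (Sheaf.H.equiv₀ G hT).bijective)
  refine (conv F q).1 ?_
  have : ∀ n, BijAt i n := fun n => by
    induction n with
    | zero => exact h0
    | succ n ih => exact bijAt_succ i ih
  exact this q F (torsionBy_of_isTorsion hF)

end AicVanishLib
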