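import Mathlib
import Groth.Prelude.Def_Curves

/-!
# Absolutely integrally closed rings: locally constant functions on `D(f) ∩ D(g)` split

If `R` is absolutely integrally closed and `f, g` generate the unit ideal, every locally constant
function on `D(f) ∩ D(g)` with values in a finite abelian group is a difference of locally constant
functions on `D(f)` and on `D(g)`.  For values in `ZMod p` the two functions are read off from a root
of an explicit monic polynomial of degree `2 p²`.
-/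

set_option autoImplicit false
set_option linter.unusedSectionVars false
set_option maxHeartbeats 1000000

universe u

open Polynomial Finset Filter
open scoped Topology

namespace AicVanishLib

/-- The cyclotomic numbers `1 + ζ + ⋯ + ζ^(n-1)`. -/
def cyc {S : Type*} [CommRing S] (ζ : S) (n : ℕ) : S := ∑ i ∈ range n, ζ ^ i

/-- One sheet of the cover. -/
def sheet {S : Type*} [CommRing S] (d : ℕ) (T w A B x : S) : S := x ^ d + (T * w ^ d + w * A + B * x)

/-- The sheet on the first chart. -/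
def sheetL {S : Type*} [CommRing S] (d : ℕ) (ζ T w F G E : S) (m : ℕ) (x : S) : S :=
  sheet d T w (F * cyc ζ m) (G * cyc ζ m + E * (cyc ζ (m + 1) - cyc ζ m)) x

/-- The sheet on the second chart (`n + 1` is the period). -/
def sheetR {S : Type*} [CommRing S] (d n : ℕ) (ζ T w F G E' : S) (m : ℕ) (x : S) : S :=
  sheet d T w (F * cyc ζ m + E' * (cyc ζ (m + n) - cyc ζ m)) (G * cyc ζ m) x

variable {S : Type*} [CommRing S] {S' : Type*} [CommRing S']

theorem map_cyc (φ : S →+* S') (ζ : S) (n : ℕ) : φ (cyc ζ n) = cyc (φ ζ) n := by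
  simp [cyc, map_sum]

theorem map_sheetL (φ : S →+* S') (d : ℕ) (ζ T w F G E : S) (m : ℕ) (x : S) :
    φ (sheetL d ζ T w F G E m x) = sheetL d (φ ζ) (φ T) (φ w) (φ F) (φ G) (φ E) m (φ x) := by
  simp [sheetL, sheet, map_cyc]

theorem map_sheetR (φ : S →+* S') (d n : ℕ) (ζ T w F G E' : S) (m : ℕ) (x : S) :
    φ (sheetR d n ζ T w F G E' m x) = sheetR d n (φ ζ) (φ T) (φ w) (φ F) (φ G) (φ E') m (φ x) := by
  simp [sheetR, sheet, map_cyc]

theorem cyc_succ (ζ : S) (n : ℕ) : cyc ζ (n + 1) = ζ * cyc ζ n + 1 := geom_sum_succ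

theorem cyc_succ' (ζ : S) (n : ℕ) : cyc ζ (n + 1) = cyc ζ n + ζ ^ n := Finset.sum_range_succ _ _

theorem cyc_add (ζ : S) (n k : ℕ) : cyc ζ (n + k) = cyc ζ n + ζ ^ n * cyc ζ k := by
  simp only [cyc, sum_range_add, mul_sum, pow_add]

theorem pow_period {ζ : S} {p : ℕ} (hc : cyc ζ p = 0) : ζ ^ p = 1 := by
  have h := cyc_succ ζ p
  have h' := cyc_succ' ζ p
  rw [hc, mul_zero, zero_add] at h
  rw [hc, zero_add] at h'
  rw [← h', h]

theorem cyc_period {ζ : S} {p : ℕ} (hc : cyc ζ p = 0) (m : ℕ) : cyc ζ (m + p) = cyc ζ m := by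
  rw [cyc_add, hc, mul_zero, add_zero]

theorem cyc_mul (ζ : S) (k l : ℕ) : cyc ζ (k * l) = cyc ζ k * cyc (ζ ^ k) l := by
  induction l with
  | zero => simp [cyc]
  | succ l ih =>
    rw [Nat.mul_succ, cyc_add, ih, cyc_succ', ← pow_mul]
    ring

theorem cyc_ne_zero [Nontrivial S] {ζ : S} {p : ℕ} (hp : p.Prime) (hc : cyc ζ p = 0) {k : ℕ}
    (hk : ¬ p ∣ k) : cyc ζ k ≠ 0 := by
  intro h
  obtain ⟨l, -, hl⟩ := Nat.exists_mul_mod_eq_one_of_coprime ((hp.coprime_iff_not_dvd.2 hk).symm) hp.one_lt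
  have hper : ∀ q r : ℕ, cyc ζ (r + q * p) = cyc ζ r := by
    intro q
    induction q with
    | zero => simp
    | succ q ih => intro r; rw [Nat.succ_mul, ← add_assoc, cyc_period hc, ih]
  have h1 : cyc ζ (k * l) = 1 := by
    rw [← Nat.mod_add_div (k * l) p, hl, mul_comm p, hper]
    simp [cyc]
  rw [cyc_mul, h, zero_mul] at h1
  exact zero_ne_one h1

theorem cyc_inj [Nontrivial S] [NoZeroDivisors S] {ζ : S} {p : ℕ} (hp : p.Prime) (hc : cyc ζ p = 0)
    {m m' : ℕ} (hm : m < p) (hm' : m' < p) (h : cyc ζ m = cyc ζ m') : m = m' := by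
  have hζ : ζ ≠ 0 := fun h0 => by
    have := pow_period hc
    rw [h0, zero_pow hp.ne_zero] at this
    exact zero_ne_one this
  wlog hle : m ≤ m' generalizing m m'
  · exact (this hm' hm h.symm (le_of_not_ge hle)).symm
  obtain ⟨k, rfl⟩ := Nat.exists_eq_add_of_le hle
  rw [cyc_add, left_eq_add, mul_eq_zero] at h
  rcases Nat.eq_zero_or_pos k with rfl | hk
  · rfl
  · exact absurd (h.resolve_left (pow_ne_zero _ hζ))
      (cyc_ne_zero hp hc (Nat.not_dvd_of_pos_of_lt hk (by omega)))

/-- Two different sheets do not meet. -/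
theorem sheetL_disjoint {K : Type*} [Field K] {p : ℕ} (hp : p.Prime) {ζ T w F G E x : K}
    (hc : cyc ζ p = 0) (hFG : F ^ (2 * p) + T * G ^ (2 * p) = 1)
    (hw : w * (w ^ (2 * p - 1) - ζ ^ (p - 1) * (F * G ^ (2 * p))) = 1) (hE : E * E = G * E)
    {m m' : ℕ} (hm : m < p) (hm' : m' < p) (h : sheetL (2 * p) ζ T w F G E m x = 0)
    (h' : sheetL (2 * p) ζ T w F G E m' x = 0) : m = m' := by
  by_contra hne
  have hcc : cyc ζ m - cyc ζ m' ≠ 0 := sub_ne_zero.2 fun hh => hne (cyc_inj hp hc hm hm' hh)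
  have hw0 : w ≠ 0 := left_ne_zero_of_mul_eq_one hw
  have hζp : ζ ^ p = 1 := pow_period hc
  have hd0 : 2 * p ≠ 0 := by have := hp.pos; omega
  by_cases hG : G = 0
  · subst hG
    have hE0 : E = 0 := by simpa using hE
    subst hE0
    have hF : F ≠ 0 := by
      rintro rfl
      simp [zero_pow hd0] at hFG
    simp only [sheetL, sheet] at h h'
    exact mul_ne_zero (mul_ne_zero hw0 hF) hcc (by linear_combination h - h')
  · obtain ⟨e, rfl⟩ : ∃ e, E = e * G := ⟨E / G, by field_simp⟩
    have he : e = 0 ∨ e = 1 := by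
      have : (e * (e - 1)) * (G * G) = 0 := by linear_combination hE
      rcases mul_eq_zero.1 this with h1 | h1
      · exact (mul_eq_zero.1 h1).imp id sub_eq_zero.1
      · exact absurd h1 (mul_ne_zero hG hG)
    rcases he with rfl | rfl
    · -- no shift
      simp only [sheetL, sheet] at h h'
      have hx : w * F + G * x = 0 := by
        have : (w * F + G * x) * (cyc ζ m - cyc ζ m') = 0 := by linear_combination h - h'
        exact (mul_eq_zero.1 this).resolve_right hcc
      have hxd : (G * x) ^ (2 * p) = (w * F) ^ (2 * p) := by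
        rw [show G * x = -(w * F) by linear_combination hx, Even.neg_pow (by simp)]
      rw [mul_pow, mul_pow] at hxd
      exact hw0 (eq_zero_of_pow_eq_zero (n := 2 * p) (by
        linear_combination G ^ (2 * p) * h - hxd - w ^ (2 * p) * hFG
          - cyc ζ m * G ^ (2 * p) * hx))
    · -- shift by one
      simp only [sheetL, sheet, cyc_succ] at h h'
      have hx : w * F + ζ * (G * x) = 0 := by
        have : (w * F + ζ * (G * x)) * (cyc ζ m - cyc ζ m') = 0 := by linear_combination h - h'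
        exact (mul_eq_zero.1 this).resolve_right hcc
      have hζ1 : ζ ^ (p - 1) * ζ = 1 := by
        rw [← pow_succ, Nat.sub_add_cancel hp.one_le, hζp]
      have hxd : (G * x) ^ (2 * p) = (w * F) ^ (2 * p) := by
        rw [show G * x = -(ζ ^ (p - 1) * (w * F)) by
          linear_combination ζ ^ (p - 1) * hx - (G * x) * hζ1, Even.neg_pow (by simp), mul_pow,
          ← pow_mul, show (p - 1) * (2 * p) = p * (2 * (p - 1)) by ring, pow_mul, hζp, one_pow, one_mul]
      rw [mul_pow, mul_pow] at hxd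
      have hwd : w ^ (2 * p) - ζ ^ (p - 1) * (F * G ^ (2 * p)) * w = 1 := by
        have hpow : w * w ^ (2 * p - 1) = w ^ (2 * p) := by
          rw [← pow_succ', Nat.sub_add_cancel (by omega)]
        linear_combination hw - hpow
      have hGx : G * x = -(ζ ^ (p - 1) * (w * F)) := by
        linear_combination ζ ^ (p - 1) * hx - (G * x) * hζ1
      exact one_ne_zero (α := K) (by
        linear_combination G ^ (2 * p) * h - hxd - w ^ (2 * p) * hFG - hwd
          - G ^ (2 * p) * (ζ * cyc ζ m + 1) * hGx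
          + (w * F * G ^ (2 * p) * cyc ζ m) * hζ1)

/-- On the overlap the sheets of the two charts agree, after shifting by `e`. -/
theorem e_mul_sheetL {ζ T w F G e : S} {n : ℕ} (hc : cyc ζ (n + 1) = 0) (he : e * e = e) (m : ℕ) (x : S) :
    e * sheetL (2 * (n + 1)) ζ T w F G (e * G) m x =
      e * sheetR (2 * (n + 1)) n ζ T w F G (e * F) (m + 1) x := by
  simp only [sheetL, sheetR, sheet, show m + 1 + n = m + (n + 1) by omega, cyc_period hc]
  linear_combination ((cyc ζ (m + 1) - cyc ζ m) * G * x + (cyc ζ (m + 1) - cyc ζ m) * w * F) * he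

theorem one_sub_mul_sheetL {ζ T w F G e : S} {n : ℕ} (he : e * e = e) (m : ℕ) (x : S) :
    (1 - e) * sheetL (2 * (n + 1)) ζ T w F G (e * G) m x =
      (1 - e) * sheetR (2 * (n + 1)) n ζ T w F G (e * F) m x := by
  simp only [sheetL, sheetR, sheet]
  linear_combination (-((cyc ζ (m + 1) - cyc ζ m) * G * x) + (cyc ζ (m + n) - cyc ζ m) * w * F) * he

theorem prod_sheet_eq {ζ T w F G e : S} {n : ℕ} (hc : cyc ζ (n + 1) = 0) (he : e * e = e) (x : S) :
    ∏ m ∈ range (n + 1), sheetL (2 * (n + 1)) ζ T w F G (e * G) m x =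
      ∏ m ∈ range (n + 1), sheetR (2 * (n + 1)) n ζ T w F G (e * F) m x := by
  set qL := fun m => sheetL (2 * (n + 1)) ζ T w F G (e * G) m x
  set qR := fun m => sheetR (2 * (n + 1)) n ζ T w F G (e * F) m x
  have hshift : ∏ m ∈ range (n + 1), qR (m + 1) = ∏ m ∈ range (n + 1), qR m := by
    have h0 : qR (n + 1) = qR 0 := by
      simp only [qR, sheetR, show n + 1 + n = n + (n + 1) by omega, cyc_period hc, hc, zero_add]
      simp [cyc]
    rw [prod_range_succ (fun m => qR (m + 1)), h0, ← prod_range_succ']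
  have key : ∀ (t : S) (_ : t * t = t) (a b : ℕ → S), (∀ m, t * a m = t * b m) →
      t * ∏ m ∈ range (n + 1), a m = t * ∏ m ∈ range (n + 1), b m := by
    intro t ht a b hab
    have hpow : ∀ k, t ^ (k + 1) = t := fun k => by
      induction k with
      | zero => simp
      | succ k ih => rw [pow_succ, ih, ht]
    have hh := Finset.prod_congr (rfl : range (n + 1) = _) (fun m _ => hab m)
    rwa [prod_mul_distrib, prod_mul_distrib, prod_const, card_range, hpow] at hh
  have h1 := key e he qL (fun m => qR (m + 1)) (fun m => e_mul_sheetL hc he m x)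
  have h2 := key (1 - e) (by linear_combination he) qL qR (fun m => one_sub_mul_sheetL he m x)
  rw [hshift] at h1
  linear_combination h1 + h2

/-! ### Glueing on a cover by two basic opens -/

variable {R : Type u} [CommRing R]

theorem exists_glue {f g : R} (hfg : IsCoprime f g) (x : Localization.Away f) (y : Localization.Away g)
    (h : IsLocalization.Away.awayToAwayRight (P := Localization.Away (f * g)) f g x =
      IsLocalization.Away.awayToAwayLeft (P := Localization.Away (f * g)) g f y) :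
    ∃ z : R, algebraMap R _ z = x ∧ algebraMap R _ z = y := by
  obtain ⟨n, a, hx⟩ := IsLocalization.Away.surj f x
  obtain ⟨m, b, hy⟩ := IsLocalization.Away.surj g y
  have hx' := congrArg (IsLocalization.Away.awayToAwayRight (P := Localization.Away (f * g)) f g) hx
  have hy' := congrArg (IsLocalization.Away.awayToAwayLeft (P := Localization.Away (f * g)) g f) hy
  simp only [map_mul, map_pow, IsLocalization.Away.awayToAwayRight_eq,
    IsLocalization.Away.awayToAwayLeft_eq] at hx' hy'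
  rw [h] at hx'
  have he : algebraMap R (Localization.Away (f * g)) (a * g ^ m) =
      algebraMap R (Localization.Away (f * g)) (b * f ^ n) := by
    simp only [map_mul, map_pow]
    rw [← hx', ← hy']
    ring
  obtain ⟨⟨c, k, rfl⟩, hk⟩ := (IsLocalization.eq_iff_exists (Submonoid.powers (f * g)) _).1 he
  simp only at hk
  obtain ⟨α, β, hαβ⟩ := (hfg.pow (m := n + k) (n := m + k))
  refine ⟨α * (a * f ^ k) + β * (b * g ^ k), ?_, ?_⟩
  · have : (α * (a * f ^ k) + β * (b * g ^ k)) * f ^ (n + k) = a * f ^ k := by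
      linear_combination (a * f ^ k) * hαβ - β * hk
    have h2 := congrArg (algebraMap R (Localization.Away f)) this
    simp only [map_mul, map_pow] at h2
    refine ((IsLocalization.Away.algebraMap_isUnit f).pow (n + k)).mul_left_injective ?_
    simp only [map_add, map_mul, map_pow] at h2 ⊢
    linear_combination h2 - (algebraMap R (Localization.Away f) f ^ k) * hx
  · have : (α * (a * f ^ k) + β * (b * g ^ k)) * g ^ (m + k) = b * g ^ k := by
      linear_combination (b * g ^ k) * hαβ + α * hk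
    have h2 := congrArg (algebraMap R (Localization.Away g)) this
    simp only [map_mul, map_pow] at h2
    refine ((IsLocalization.Away.algebraMap_isUnit g).pow (m + k)).mul_left_injective ?_
    simp only [map_add, map_mul, map_pow] at h2 ⊢
    linear_combination h2 - (algebraMap R (Localization.Away g) g ^ k) * hy

theorem exists_glue_monic {f g : R} (hfg : IsCoprime f g) (P : (Localization.Away f)[X])
    (Q : (Localization.Away g)[X]) (D : ℕ) (hPd : P.natDegree ≤ D) (hP1 : P.coeff D = 1)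
    (hQd : Q.natDegree ≤ D) (hQ1 : Q.coeff D = 1)
    (h : P.map (IsLocalization.Away.awayToAwayRight (P := Localization.Away (f * g)) f g) =
      Q.map (IsLocalization.Away.awayToAwayLeft (P := Localization.Away (f * g)) g f)) :
    ∃ h : R[X], h.Monic ∧ (Nontrivial R → h.natDegree = D) ∧
      h.map (algebraMap R _) = P ∧ h.map (algebraMap R _) = Q := by
  have hc := fun i => exists_glue hfg (P.coeff i) (Q.coeff i) (by
    have := congrArg (fun q => Polynomial.coeff q i) h
    simpa [Polynomial.coeff_map] using this)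
  choose z hzP hzQ using hc
  let r : R[X] := ∑ i ∈ range D, C (z i) * X ^ i
  have hr : ∀ i, r.coeff i = if i < D then z i else 0 := by
    intro i
    simp [r, finsetSum_coeff, coeff_X_pow, Finset.mem_range]
  have hrd : r.degree < D := (degree_lt_iff_coeff_zero _ _).2 fun i hi => by rw [hr, if_neg (by omega)]
  refine ⟨X ^ D + r, monic_X_pow_add hrd, fun hR => ?_, ?_, ?_⟩
  · exact natDegree_eq_of_degree_eq_some (by
      rw [degree_add_eq_left_of_degree_lt (by rwa [degree_X_pow]), degree_X_pow])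
  all_goals
    refine Polynomial.ext fun i => ?_
    rw [coeff_map, coeff_add, coeff_X_pow, hr]
    rcases lt_trichotomy i D with hi | rfl | hi
  · simp [hi, hi.ne, hzP]
  · simp [hP1]
  · simp [hi.ne', not_lt.2 hi.le, coeff_eq_zero_of_natDegree_lt (lt_of_le_of_lt hPd hi)]
  · simp [hi, hi.ne, hzQ]
  · simp [hQ1]
  · simp [hi.ne', not_lt.2 hi.le, coeff_eq_zero_of_natDegree_lt (lt_of_le_of_lt hQd hi)]

/-! ### Locally constant functions -/

/-- `φ` is locally constant at the points of `U`. -/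
def IsLC {M : Type*} (U : Set (PrimeSpectrum R)) (φ : PrimeSpectrum R → M) : Prop :=
  ∀ x ∈ U, ∀ᶠ y in 𝓝 x, φ y = φ x

theorem IsLC.comp {M N : Type*} {U : Set (PrimeSpectrum R)} {φ : PrimeSpectrum R → M} (h : IsLC U φ)
    (σ : M → N) : IsLC U (fun x => σ (φ x)) :=
  fun x hx => (h x hx).mono fun _ hy => congrArg σ hy

theorem IsLC.map₂ {M N L : Type*} {U : Set (PrimeSpectrum R)} {φ : PrimeSpectrum R → M}
    {ψ : PrimeSpectrum R → N} (h : IsLC U φ) (h' : IsLC U ψ) (σ : M → N → L) :
    IsLC U (fun x => σ (φ x) (ψ x)) := fun x hx => by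
  filter_upwards [h x hx, h' x hx] with y hy hy'
  rw [hy, hy']

theorem IsLC.mono {M : Type*} {U V : Set (PrimeSpectrum R)} {φ : PrimeSpectrum R → M} (h : IsLC U φ)
    (hVU : V ⊆ U) : IsLC V φ :=
  fun x hx => h x (hVU hx)

theorem IsLC.congr {M : Type*} {U : Set (PrimeSpectrum R)} {φ ψ : PrimeSpectrum R → M} (h : IsLC U φ)
    (hU : IsOpen U) (he : ∀ x ∈ U, φ x = ψ x) : IsLC U ψ := fun x hx => by
  filter_upwards [h x hx, hU.mem_nhds hx] with y hy hy'
  rw [← he y hy', ← he x hx, hy]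

theorem IsLC.sum {M ι : Type*} [AddCommMonoid M] {U : Set (PrimeSpectrum R)}
    (s : Finset ι) {φ : ι → PrimeSpectrum R → M} (h : ∀ i ∈ s, IsLC U (φ i)) :
    IsLC U (fun x => ∑ i ∈ s, φ i x) := fun x hx => by
  filter_upwards [(s.eventually_all).2 fun i hi => h i hi x hx] with y hy
  exact Finset.sum_congr rfl hy

/-- The numerator of the idempotent of a relatively clopen subset of a basic open. -/
theorem exists_num {f : R} {C : Set (PrimeSpectrum R)}
    (hC : IsLC (PrimeSpectrum.basicOpen f : Set (PrimeSpectrum R)) (fun x => x ∈ C)) :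
    ∃ (c : R) (N : ℕ), c * c = c * f ^ N ∧
      ∀ x : PrimeSpectrum R, f ∉ x.asIdeal → (x ∈ C ↔ c ∉ x.asIdeal) := by
  let A := Localization.Away f
  let π := PrimeSpectrum.comap (algebraMap R A)
  have hπ : Continuous π := PrimeSpectrum.continuous_comap _
  have hmem : ∀ q, π q ∈ (PrimeSpectrum.basicOpen f : Set (PrimeSpectrum R)) := fun q hq =>
    q.isPrime.ne_top (Ideal.eq_top_of_isUnit_mem _ hq (IsLocalization.Away.algebraMap_isUnit f))
  have hcl : IsClopen (π ⁻¹' C) := by
    constructor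
    · refine isOpen_compl_iff.1 (isOpen_iff_mem_nhds.2 fun q hq => ?_)
      filter_upwards [hπ.continuousAt.eventually (hC _ (hmem q))] with q' hq' h2
      exact hq ((iff_of_eq hq').1 h2)
    · refine isOpen_iff_mem_nhds.2 fun q hq => ?_
      filter_upwards [hπ.continuousAt.eventually (hC _ (hmem q))] with q' hq'
      exact (iff_of_eq hq').2 hq
  obtain ⟨e, he, heC⟩ := PrimeSpectrum.exists_idempotent_basicOpen_eq_of_isClopen hcl
  obtain ⟨n, c, hc⟩ := IsLocalization.Away.surj f e
  have hcc : algebraMap R A (c * c) = algebraMap R A (c * f ^ n) := by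
    simp only [map_mul, map_pow, ← hc]
    linear_combination (algebraMap R A f ^ n) * (algebraMap R A f ^ n) * he.eq
  obtain ⟨⟨t, k, rfl⟩, hk⟩ := (IsLocalization.eq_iff_exists (Submonoid.powers f) _).1 hcc
  simp only at hk
  refine ⟨c * f ^ k, n + k, by linear_combination (f ^ k) * hk, fun x hx => ?_⟩
  obtain ⟨q, rfl⟩ : x ∈ Set.range π := by
    rw [PrimeSpectrum.localization_away_comap_range A f]
    exact hx
  show q ∈ π ⁻¹' C ↔ _
  rw [heC]
  show e ∉ q.asIdeal ↔ c * f ^ k ∉ (π q).asIdeal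
  have hf' : algebraMap R A f ∉ q.asIdeal := hx
  rw [show (c * f ^ k ∉ (π q).asIdeal) ↔ algebraMap R A (c * f ^ k) ∉ q.asIdeal from Iff.rfl,
    map_mul, map_pow, ← hc, mul_assoc, ← pow_add]
  exact ⟨fun h1 h2 => (q.isPrime.mem_or_mem h2).elim h1 (fun h3 => hf' (q.isPrime.mem_of_pow_mem _ h3)),
    fun h1 h2 => h1 (Ideal.mul_mem_right _ _ h2)⟩

/-! ### The splitting -/

theorem cyc_mod {ζ : S} {p : ℕ} (hc : cyc ζ p = 0) (m : ℕ) : cyc ζ (m % p) = cyc ζ m := by
  conv_rhs => rw [← Nat.mod_add_div m p]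
  induction m / p with
  | zero => simp
  | succ q ih => rw [Nat.mul_succ, ← add_assoc, cyc_period hc, ← ih]

theorem sheetL_mod {ζ T w F G E : S} {p : ℕ} (hc : cyc ζ p = 0) (d m : ℕ) (x : S) :
    sheetL d ζ T w F G E (m % p) x = sheetL d ζ T w F G E m x := by
  have h1 : cyc ζ (m % p + 1) = cyc ζ (m + 1) := by
    rw [cyc_succ, cyc_succ, cyc_mod hc]
  simp only [sheetL, cyc_mod hc, h1]

theorem sheetR_mod {ζ T w F G E' : S} {n : ℕ} (hc : cyc ζ (n + 1) = 0) (d m : ℕ) (x : S) :
    sheetR d n ζ T w F G E' (m % (n + 1)) x = sheetR d n ζ T w F G E' m x := by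
  have h1 : cyc ζ (m % (n + 1) + n) = cyc ζ (m + n) := by
    rw [← cyc_mod hc (m % (n + 1) + n), ← cyc_mod hc (m + n), Nat.mod_add_mod]
  simp only [sheetR, cyc_mod hc, h1]

theorem sheetR_disjoint {K : Type*} [Field K] {n : ℕ} (hp : (n + 1).Prime) {ζ T w F G E' x : K}
    (hc : cyc ζ (n + 1) = 0) (hFG : F ^ (2 * (n + 1)) + T * G ^ (2 * (n + 1)) = 1)
    (hw : w * (w ^ (2 * (n + 1) - 1) - ζ ^ (n + 1 - 1) * (F * G ^ (2 * (n + 1)))) = 1)
    (hE : E' * E' = F * E') (hG : G ≠ 0)
    {m m' : ℕ} (hm : m < n + 1) (hm' : m' < n + 1) (h : sheetR (2 * (n + 1)) n ζ T w F G E' m x = 0)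
    (h' : sheetR (2 * (n + 1)) n ζ T w F G E' m' x = 0) : m = m' := by
  rcases mul_eq_zero.1 (show E' * (E' - F) = 0 by linear_combination hE) with rfl | hEF
  · refine sheetL_disjoint hp hc hFG hw (E := 0) (x := x) (by simp) hm hm' ?_ ?_
    · simpa [sheetL, sheetR, sheet] using h
    · simpa [sheetL, sheetR, sheet] using h'
  · obtain rfl := sub_eq_zero.1 hEF
    have key : ∀ {j : ℕ}, sheetR (2 * (n + 1)) n ζ T w E' G E' j x = 0 →
        sheetL (2 * (n + 1)) ζ T w E' G G ((j + n) % (n + 1)) x = 0 := by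
      intro j hj
      rw [sheetL_mod hc, ← hj]
      simp only [sheetL, sheetR, sheet, show j + n + 1 = j + (n + 1) by omega, cyc_period hc]
      ring
    have := sheetL_disjoint hp hc hFG hw (E := G) (x := x) rfl (Nat.mod_lt _ n.succ_pos)
      (Nat.mod_lt _ n.succ_pos) (key h) (key h')
    have h2 := Nat.ModEq.add_right_cancel' n this
    rwa [Nat.ModEq, Nat.mod_eq_of_lt hm, Nat.mod_eq_of_lt hm'] at h2

theorem poly_facts {A : Type*} [CommRing A] {d : ℕ} (hd : 1 < d) (a b : A) :
    (X ^ d + (C a + C b * X) : A[X]).natDegree ≤ d ∧ (X ^ d + (C a + C b * X) : A[X]).coeff d = 1 := by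
  constructor
  · refine (natDegree_add_le _ _).trans (max_le (natDegree_X_pow_le d) ?_)
    refine (natDegree_add_le _ _).trans (max_le (by simp) ?_)
    exact ((natDegree_C_mul_le b X).trans natDegree_X_le).trans hd.le
  · have : d ≠ 0 := by omega
    simp [coeff_C, coeff_X, this, Nat.ne_of_lt hd]

/-- A numerator: the values of an element of `R_f` in residue fields. -/
theorem exists_numer {f : R} (z : Localization.Away f) :
    ∃ b : R, ∀ x : PrimeSpectrum R, f ∉ x.asIdeal → ∀ ψ : Localization.Away f →+* x.asIdeal.ResidueField,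
      ψ.comp (algebraMap R _) = algebraMap R _ → (ψ z = 0 ↔ b ∈ x.asIdeal) := by
  obtain ⟨k, b, hb⟩ := IsLocalization.Away.surj f z
  refine ⟨b, fun x hx ψ hψ => ?_⟩
  have h := congrArg ψ hb
  simp only [map_mul, map_pow] at h
  have hψ' : ∀ r, ψ (algebraMap R (Localization.Away f) r) = algebraMap R x.asIdeal.ResidueField r :=
    fun r => RingHom.congr_fun hψ r
  rw [hψ', hψ'] at h
  rw [← Ideal.algebraMap_residueField_eq_zero, ← h, mul_eq_zero, pow_eq_zero_iff',
    Ideal.algebraMap_residueField_eq_zero]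
  simp [hx]

theorem isLC_choose {M : Type*} {U : Set (PrimeSpectrum R)} (hU : IsOpen U) (p : ℕ) (b : ℕ → R)
    (hex : ∀ x ∈ U, ∃ m < p, b m ∈ x.asIdeal)
    (huniq : ∀ x ∈ U, ∀ m < p, ∀ m' < p, b m ∈ x.asIdeal → b m' ∈ x.asIdeal → m = m') (v : ℕ → M)
    (φ : PrimeSpectrum R → M) (hφ : ∀ x ∈ U, ∀ m < p, b m ∈ x.asIdeal → φ x = v m) : IsLC U φ := by
  intro x hx
  obtain ⟨m, hm, hmx⟩ := hex x hx
  have hev : ∀ᶠ y in 𝓝 x, ∀ m' ∈ range p, m' ≠ m → b m' ∉ y.asIdeal :=
    ((range p).eventually_all).2 fun m' hm' => eventually_imp_distrib_left.2 fun hne =>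
      (PrimeSpectrum.basicOpen (b m')).isOpen.mem_nhds
        (fun hmx' => hne (huniq x hx m' (mem_range.1 hm') m hm hmx' hmx))
  filter_upwards [hev, hU.mem_nhds hx] with y hy hyU
  obtain ⟨m', hm', hm'y⟩ := hex y hyU
  obtain rfl : m' = m := not_not.1 fun hne => hy m' (mem_range.2 hm') hne hm'y
  rw [hφ y hyU m' hm' hm'y, hφ x hx m' hm hmx]

theorem sq_div {K : Type*} [Field K] {c F G : K} (hF : F ≠ 0) (h : c * c = c * (F * G)) :
    c / F * (c / F) = G * (c / F) := by
  field_simp
  linear_combination h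

theorem mul_div_cancel_aux {K : Type*} [Field K] (a b : K) {c : K} (hc : c ≠ 0) :
    a * (b * c) / c = a * b ∧ b * c / b = c ∨ b = 0 := by
  rcases eq_or_ne b 0 with hb | hb
  · exact Or.inr hb
  · exact Or.inl ⟨by field_simp, by field_simp⟩

theorem split_indicator (hR : Curves.IsAIC R) {p : ℕ} (hp : p.Prime) {f g : R} (hfg : IsCoprime f g)
    {C' : Set (PrimeSpectrum R)}
    (hC : IsLC (PrimeSpectrum.basicOpen (f * g) : Set (PrimeSpectrum R)) (fun x => x ∈ C')) :
    ∃ a b : PrimeSpectrum R → ZMod p, IsLC (PrimeSpectrum.basicOpen f : Set (PrimeSpectrum R)) a ∧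
      IsLC (PrimeSpectrum.basicOpen g : Set (PrimeSpectrum R)) b ∧
      ∀ x ∈ PrimeSpectrum.basicOpen f, x ∈ PrimeSpectrum.basicOpen g →
        (x ∈ C' → b x - a x = 1) ∧ (x ∉ C' → b x - a x = 0) := by
  classical
  rcases subsingleton_or_nontrivial R with hsub | hnt
  · haveI : IsEmpty (PrimeSpectrum R) := PrimeSpectrum.isEmpty_iff_subsingleton.2 hsub
    exact ⟨fun x => isEmptyElim x, fun x => isEmptyElim x, fun x => isEmptyElim x, fun x => isEmptyElim x,
      fun x => isEmptyElim x⟩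
  obtain ⟨c, N, hcc, hcC⟩ := exists_num hC
  obtain ⟨n, rfl⟩ : ∃ n, p = n + 1 := ⟨p - 1, (Nat.sub_add_cancel hp.one_le).symm⟩
  set d := 2 * (n + 1) with hd
  have hd1 : 1 < d := by omega
  obtain ⟨u, T, huT⟩ := (hfg.pow (m := N * d) (n := N * d))
  obtain ⟨a, ha⟩ := hR (X ^ d - C u) (monic_X_pow_sub_C u (by omega)) (by rw [natDegree_X_pow_sub_C]; omega)
  simp only [eval_sub, eval_pow, eval_X, eval_C, sub_eq_zero] at ha
  set G := g ^ N with hG
  set F0 := f ^ N with hF0
  set F := a * F0 with hF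
  have hcc' : c * c = c * (F0 * G) := by rw [hcc, mul_pow]
  have hFG : F ^ d + T * G ^ d = 1 := by
    rw [hF, hF0, hG, mul_pow, ← pow_mul, ← pow_mul, ha]
    exact huT
  haveI := Fact.mk hp
  obtain ⟨ζ, hζ⟩ := hR (cyclotomic (n + 1) R) (cyclotomic.monic _ _)
    (by rw [natDegree_cyclotomic]; exact Nat.totient_pos.2 n.succ_pos)
  rw [cyclotomic_prime, eval_geom_sum] at hζ
  replace hζ : cyc ζ (n + 1) = 0 := hζ
  set A := ζ ^ (n + 1 - 1) * (F * G ^ d) with hA
  have hwdeg : (C A * X + 1 : R[X]).degree < d := by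
    refine lt_of_le_of_lt (degree_add_le _ _) (max_lt (lt_of_le_of_lt (degree_C_mul_X_le _) ?_) ?_)
    · exact_mod_cast hd1
    · rw [degree_one]; exact_mod_cast (show 0 < d by omega)
  obtain ⟨w, hw0⟩ := hR (X ^ d - (C A * X + 1)) (monic_X_pow_sub hwdeg) (by
    rw [natDegree_eq_of_degree_eq_some (degree_sub_eq_left_of_degree_lt (by rwa [degree_X_pow]) |>.trans
      (degree_X_pow d))]
    omega)
  simp only [eval_sub, eval_pow, eval_X, eval_C, eval_add, eval_mul, eval_one] at hw0
  have hw : w * (w ^ (d - 1) - A) = 1 := by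
    rw [mul_sub, ← pow_succ', Nat.sub_add_cancel (by omega)]
    linear_combination hw0
  let Rf := Localization.Away f
  let Rg := Localization.Away g
  let W := Localization.Away (f * g)
  let ι₁ : Rf →+* W := IsLocalization.Away.awayToAwayRight f g
  let ι₂ : Rg →+* W := IsLocalization.Away.awayToAwayLeft g f
  let invf : Rf := IsLocalization.Away.invSelf f
  let invg : Rg := IsLocalization.Away.invSelf g
  set EL : Rf := algebraMap R Rf c * invf ^ N with hEL
  set ER : Rg := algebraMap R Rg (a * c) * invg ^ N with hER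
  have hEL' : EL * algebraMap R Rf F0 = algebraMap R Rf c := by
    rw [hEL, hF0, map_pow, mul_assoc, ← mul_pow, mul_comm invf,
      IsLocalization.Away.mul_invSelf, one_pow, mul_one]
  have hER' : ER * algebraMap R Rg G = algebraMap R Rg (a * c) := by
    rw [hER, hG, map_pow, mul_assoc, ← mul_pow, mul_comm invg,
      IsLocalization.Away.mul_invSelf, one_pow, mul_one]
  let qL : ℕ → Rf[X] := fun m => sheetL d (C (algebraMap R Rf ζ)) (C (algebraMap R Rf T))
    (C (algebraMap R Rf w)) (C (algebraMap R Rf F)) (C (algebraMap R Rf G)) (C EL) m X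
  let qR : ℕ → Rg[X] := fun m => sheetR d n (C (algebraMap R Rg ζ)) (C (algebraMap R Rg T))
    (C (algebraMap R Rg w)) (C (algebraMap R Rg F)) (C (algebraMap R Rg G)) (C ER) m X
  have hqL : ∀ m, ∃ a b, qL m = X ^ d + (C a + C b * X) := fun m => by
    simp only [qL, sheetL, sheet, ← map_cyc, ← map_pow, ← map_mul, ← map_add, ← map_sub]
    exact ⟨_, _, rfl⟩
  have hqR : ∀ m, ∃ a b, qR m = X ^ d + (C a + C b * X) := fun m => by
    simp only [qR, sheetR, sheet, ← map_cyc, ← map_pow, ← map_mul, ← map_add, ← map_sub]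
    exact ⟨_, _, rfl⟩
  have hfacts : ∀ {A : Type u} [CommRing A] (q : ℕ → A[X]), (∀ m, ∃ a b : A, q m = X ^ d + (C a + C b * X)) →
      (∏ m ∈ range (n + 1), q m).natDegree ≤ (n + 1) * d ∧ (∏ m ∈ range (n + 1), q m).coeff ((n + 1) * d) = 1 := by
    intro A _ q hq
    have h1 : ∀ m, (q m).natDegree ≤ d ∧ (q m).coeff d = 1 := fun m => by
      obtain ⟨a, b, h⟩ := hq m; rw [h]; exact poly_facts hd1 a b
    refine ⟨(natDegree_prod_le _ _).trans ((Finset.sum_le_card_nsmul _ _ d fun m _ => (h1 m).1).trans_eq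
      (by simp)), ?_⟩
    have h2 := coeff_prod_of_natDegree_le (range (n + 1)) q d (fun m _ => (h1 m).1)
    rw [card_range] at h2
    rw [h2]
    exact Finset.prod_eq_one fun m _ => (h1 m).2
  obtain ⟨h, hm, hdeg, hhL, hhR⟩ := exists_glue_monic hfg (∏ m ∈ range (n + 1), qL m)
    (∏ m ∈ range (n + 1), qR m) ((n + 1) * d) (hfacts qL hqL).1 (hfacts qL hqL).2 (hfacts qR hqR).1
    (hfacts qR hqR).2 (by
      let e : W := algebraMap R W c * IsLocalization.Away.invSelf (f * g) ^ N
      have hinv : algebraMap R W (F0 * G) * IsLocalization.Away.invSelf (f * g) ^ N = 1 := by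
        rw [hF0, hG, ← mul_pow, map_pow, ← mul_pow, IsLocalization.Away.mul_invSelf, one_pow]
      have hu : IsUnit (algebraMap R W F0) ∧ IsUnit (algebraMap R W G) := by
        rw [← IsUnit.mul_iff, ← map_mul]; exact IsUnit.of_mul_eq_one _ hinv
      have he : e * e = e := by
        have h2 := congrArg (algebraMap R W) hcc'
        simp only [map_mul] at h2 hinv
        simp only [e]
        linear_combination (IsLocalization.Away.invSelf (f * g) ^ N) * (IsLocalization.Away.invSelf (f * g) ^ N) * h2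
          + (algebraMap R W c * IsLocalization.Away.invSelf (f * g) ^ N) * hinv
      have h1 : ι₁ EL = e * algebraMap R W G := by
        refine hu.1.mul_left_injective ?_
        have h2 := congrArg ι₁ hEL'
        simp only [map_mul, ι₁, IsLocalization.Away.awayToAwayRight_eq] at h2 hinv ⊢
        simp only [e]
        linear_combination h2 - (algebraMap R W c) * hinv
      have h2 : ι₂ ER = e * algebraMap R W F := by
        refine hu.2.mul_left_injective ?_
        have h3 := congrArg ι₂ hER'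
        simp only [hF, map_mul, ι₂, IsLocalization.Away.awayToAwayLeft_eq] at h3 hinv ⊢
        simp only [e]
        linear_combination h3 - (algebraMap R W a * algebraMap R W c) * hinv
      have eL : ∀ m, (qL m).map ι₁ = sheetL d (C (algebraMap R W ζ)) (C (algebraMap R W T))
          (C (algebraMap R W w)) (C (algebraMap R W F)) (C (algebraMap R W G)) (C e * C (algebraMap R W G))
          m X := fun m => by
        show mapRingHom ι₁ (qL m) = _
        simp only [qL, map_sheetL]
        simp only [coe_mapRingHom, map_C, map_X, h1, C_mul, ι₁, Rf, W, IsLocalization.Away.awayToAwayRight_eq]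
      have eR : ∀ m, (qR m).map ι₂ = sheetR d n (C (algebraMap R W ζ)) (C (algebraMap R W T))
          (C (algebraMap R W w)) (C (algebraMap R W F)) (C (algebraMap R W G)) (C e * C (algebraMap R W F))
          m X := fun m => by
        show mapRingHom ι₂ (qR m) = _
        simp only [qR, map_sheetR]
        simp only [coe_mapRingHom, map_C, map_X, h2, C_mul, ι₂, Rg, W, IsLocalization.Away.awayToAwayLeft_eq]
      rw [Polynomial.map_prod, Polynomial.map_prod, Finset.prod_congr rfl (fun m _ => eL m),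
        Finset.prod_congr rfl (fun m _ => eR m)]
      exact prod_sheet_eq (by rw [← map_cyc, ← map_cyc, hζ, map_zero, map_zero])
        (by rw [← C_mul, he]) X)
  obtain ⟨r, hr⟩ := hR h hm (by rw [hdeg hnt]; positivity)
  choose bL hbL using fun m => exists_numer ((qL m).eval (algebraMap R Rf r))
  choose bR hbR using fun m => exists_numer ((qR m).eval (algebraMap R Rg r))
  let K := fun x : PrimeSpectrum R => x.asIdeal.ResidueField
  let φ := fun x : PrimeSpectrum R => algebraMap R (K x)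
  have hne : ∀ {x : PrimeSpectrum R} {s : R}, s ∉ x.asIdeal → φ x s ≠ 0 := fun hs h0 =>
    hs (Ideal.algebraMap_residueField_eq_zero.1 h0)
  -- values of the sheets in residue fields
  have hvalL : ∀ x : PrimeSpectrum R, f ∉ x.asIdeal → ∀ m, bL m ∈ x.asIdeal ↔
      sheetL d (φ x ζ) (φ x T) (φ x w) (φ x F) (φ x G) (φ x c / φ x F0) m (φ x r) = 0 := by
    intro x hx m
    let ψ : Rf →+* K x := IsLocalization.Away.lift f (g := φ x) (Ne.isUnit (hne hx))
    have hψ : ∀ s, ψ (algebraMap R Rf s) = φ x s := fun s => IsLocalization.Away.lift_eq f _ s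
    have hE : ψ EL = φ x c / φ x F0 := by
      rw [eq_div_iff (by rw [hF0, map_pow]; exact pow_ne_zero _ (hne hx)), ← hψ, ← map_mul, hEL', hψ]
    rw [← hbL m x hx ψ (RingHom.ext hψ)]
    simp only [qL, ← coe_evalRingHom, map_sheetL]
    simp only [coe_evalRingHom, eval_C, eval_X, hψ, hE]
  have hvalR : ∀ x : PrimeSpectrum R, g ∉ x.asIdeal → ∀ m, bR m ∈ x.asIdeal ↔
      sheetR d n (φ x ζ) (φ x T) (φ x w) (φ x F) (φ x G) (φ x (a * c) / φ x G) m (φ x r) = 0 := by
    intro x hx m
    let ψ : Rg →+* K x := IsLocalization.Away.lift g (g := φ x) (Ne.isUnit (hne hx))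
    have hψ : ∀ s, ψ (algebraMap R Rg s) = φ x s := fun s => IsLocalization.Away.lift_eq g _ s
    have hE : ψ ER = φ x (a * c) / φ x G := by
      rw [eq_div_iff (by rw [hG, map_pow]; exact pow_ne_zero _ (hne hx)), ← hψ, ← map_mul, hER', hψ]
    rw [← hbR m x hx ψ (RingHom.ext hψ)]
    simp only [qR, ← coe_evalRingHom, map_sheetR]
    simp only [coe_evalRingHom, eval_C, eval_X, hψ, hE]
  have hzero : ∀ {A : Type u} [CommRing A] [Algebra R A] (q : ℕ → A[X]),
      h.map (algebraMap R A) = ∏ m ∈ range (n + 1), q m → ∀ {L : Type u} [Field L] (ψ : A →+* L),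
      ∃ m < n + 1, ψ ((q m).eval (algebraMap R A r)) = 0 := by
    intro A _ _ q hq L _ ψ
    have h0 : ψ ((∏ m ∈ range (n + 1), q m).eval (algebraMap R A r)) = 0 := by
      rw [← hq, eval_map, eval₂_at_apply, hr, map_zero, map_zero]
    rw [eval_prod, map_prod, Finset.prod_eq_zero_iff] at h0
    obtain ⟨m, hm1, hm2⟩ := h0
    exact ⟨m, mem_range.1 hm1, hm2⟩
  have hexL : ∀ x ∈ (PrimeSpectrum.basicOpen f : Set (PrimeSpectrum R)), ∃ m < n + 1, bL m ∈ x.asIdeal := by
    intro x hx
    obtain ⟨m, hm1, hm2⟩ := hzero qL hhL (IsLocalization.Away.lift f (g := φ x) (Ne.isUnit (hne hx)))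
    exact ⟨m, hm1, (hbL m x hx _ (IsLocalization.Away.lift_comp f _)).1 hm2⟩
  have hexR : ∀ x ∈ (PrimeSpectrum.basicOpen g : Set (PrimeSpectrum R)), ∃ m < n + 1, bR m ∈ x.asIdeal := by
    intro x hx
    obtain ⟨m, hm1, hm2⟩ := hzero qR hhR (IsLocalization.Away.lift g (g := φ x) (Ne.isUnit (hne hx)))
    exact ⟨m, hm1, (hbR m x hx _ (IsLocalization.Away.lift_comp g _)).1 hm2⟩
  have hrel : ∀ x : PrimeSpectrum R, cyc (φ x ζ) (n + 1) = 0 ∧ φ x F ^ d + φ x T * φ x G ^ d = 1 ∧
      φ x w * (φ x w ^ (d - 1) - φ x ζ ^ (n + 1 - 1) * (φ x F * φ x G ^ d)) = 1 ∧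
      φ x c * φ x c = φ x c * (φ x F0 * φ x G) := fun x => by
    refine ⟨by rw [← map_cyc, hζ, map_zero], ?_, ?_, ?_⟩
    · rw [← map_pow, ← map_pow, ← map_mul, ← map_add, hFG, map_one]
    · simpa [hA] using congrArg (φ x) hw
    · simpa using congrArg (φ x) hcc'
  have huL : ∀ x ∈ (PrimeSpectrum.basicOpen f : Set (PrimeSpectrum R)), ∀ m < n + 1, ∀ m' < n + 1,
      bL m ∈ x.asIdeal → bL m' ∈ x.asIdeal → m = m' := by
    intro x hx m hm m' hm' h1 h2
    obtain ⟨r1, r2, r3, r4⟩ := hrel x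
    refine sheetL_disjoint hp r1 r2 r3 ?_ hm hm' ((hvalL x hx m).1 h1) ((hvalL x hx m').1 h2)
    have hF0' : φ x F0 ≠ 0 := by rw [hF0, map_pow]; exact pow_ne_zero _ (hne hx)
    exact sq_div hF0' r4
  have huR : ∀ x ∈ (PrimeSpectrum.basicOpen g : Set (PrimeSpectrum R)), ∀ m < n + 1, ∀ m' < n + 1,
      bR m ∈ x.asIdeal → bR m' ∈ x.asIdeal → m = m' := by
    intro x hx m hm m' hm' h1 h2
    obtain ⟨r1, r2, r3, r4⟩ := hrel x
    have hG' : φ x G ≠ 0 := by rw [hG, map_pow]; exact pow_ne_zero _ (hne hx)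
    refine sheetR_disjoint hp r1 r2 r3 ?_ hG' hm hm' ((hvalR x hx m).1 h1) ((hvalR x hx m').1 h2)
    simp only [hF, map_mul]
    exact sq_div hG' (by linear_combination (φ x a) * (φ x a) * r4)
  let va : PrimeSpectrum R → ZMod (n + 1) := fun x =>
    if hx : ∃ m < n + 1, bL m ∈ x.asIdeal then (hx.choose : ZMod (n + 1)) else 0
  let vb : PrimeSpectrum R → ZMod (n + 1) := fun x =>
    if hx : ∃ m < n + 1, bR m ∈ x.asIdeal then (hx.choose : ZMod (n + 1)) else 0
  have hva : ∀ x ∈ (PrimeSpectrum.basicOpen f : Set (PrimeSpectrum R)), ∀ m < n + 1, bL m ∈ x.asIdeal →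
      va x = (m : ZMod (n + 1)) := by
    intro x hx m hm1 hm2
    have hex : ∃ m < n + 1, bL m ∈ x.asIdeal := ⟨m, hm1, hm2⟩
    simp only [va, dif_pos hex]
    rw [huL x hx _ hex.choose_spec.1 _ hm1 hex.choose_spec.2 hm2]
  have hvb : ∀ x ∈ (PrimeSpectrum.basicOpen g : Set (PrimeSpectrum R)), ∀ m < n + 1, bR m ∈ x.asIdeal →
      vb x = (m : ZMod (n + 1)) := by
    intro x hx m hm1 hm2
    have hex : ∃ m < n + 1, bR m ∈ x.asIdeal := ⟨m, hm1, hm2⟩
    simp only [vb, dif_pos hex]
    rw [huR x hx _ hex.choose_spec.1 _ hm1 hex.choose_spec.2 hm2]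
  refine ⟨va, vb, isLC_choose (PrimeSpectrum.basicOpen f).isOpen (n + 1) bL hexL huL _ va hva,
    isLC_choose (PrimeSpectrum.basicOpen g).isOpen (n + 1) bR hexR huR _ vb hvb, fun x hxf hxg => ?_⟩
  obtain ⟨m, hm1, hm2⟩ := hexL x hxf
  obtain ⟨r1, -, -, r4⟩ := hrel x
  have hF0' : φ x F0 ≠ 0 := by rw [hF0, map_pow]; exact pow_ne_zero _ (hne hxf)
  have hG' : φ x G ≠ 0 := by rw [hG, map_pow]; exact pow_ne_zero _ (hne hxg)
  have hfgx : f * g ∉ x.asIdeal := fun hh => (x.isPrime.mem_or_mem hh).elim hxf hxg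
  have hval := (hvalL x hxf m).1 hm2
  have hiff : x ∈ C' ↔ φ x c ≠ 0 := (hcC x hfgx).trans Ideal.algebraMap_residueField_eq_zero.not.symm
  constructor
  · intro hxC
    have hc1 : φ x c = φ x F0 * φ x G := mul_left_cancel₀ (hiff.1 hxC) r4
    have h0 : sheetR d n (φ x ζ) (φ x T) (φ x w) (φ x F) (φ x G) (φ x (a * c) / φ x G)
        ((m + 1) % (n + 1)) (φ x r) = 0 := by
      rw [sheetR_mod r1, ← hval, hc1]
      have := e_mul_sheetL (T := φ x T) (w := φ x w) (F := φ x F) (G := φ x G) (e := (1 : K x)) r1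
        (one_mul 1) m (φ x r)
      simp only [one_mul] at this
      simp only [hF, map_mul] at this ⊢
      obtain ⟨e1, e2⟩ := (mul_div_cancel_aux (φ x a) (φ x F0) hG').resolve_right hF0'
      rw [hc1, e1, e2]
      exact this.symm
    rw [hvb x hxg _ (Nat.mod_lt _ n.succ_pos) ((hvalR x hxg _).2 h0), hva x hxf m hm1 hm2,
      ZMod.natCast_mod, Nat.cast_add, Nat.cast_one]
    ring
  · intro hxC
    have hc0 : φ x c = 0 := not_not.1 fun h1 => hxC (hiff.2 h1)
    have h0 : sheetR d n (φ x ζ) (φ x T) (φ x w) (φ x F) (φ x G) (φ x (a * c) / φ x G) m (φ x r) = 0 := by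
      rw [← hval]
      simp [sheetL, sheetR, sheet, hc0]
    rw [hvb x hxg _ hm1 ((hvalR x hxg _).2 h0), hva x hxf m hm1 hm2, sub_self]

theorem split_zmod (hR : Curves.IsAIC R) {p : ℕ} [Fact p.Prime] {f g : R} (hfg : IsCoprime f g)
    {φ : PrimeSpectrum R → ZMod p}
    (hφ : IsLC (PrimeSpectrum.basicOpen (f * g) : Set (PrimeSpectrum R)) φ) :
    ∃ a b : PrimeSpectrum R → ZMod p, IsLC (PrimeSpectrum.basicOpen f : Set (PrimeSpectrum R)) a ∧
      IsLC (PrimeSpectrum.basicOpen g : Set (PrimeSpectrum R)) b ∧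
      ∀ x ∈ PrimeSpectrum.basicOpen f, x ∈ PrimeSpectrum.basicOpen g → φ x = b x - a x := by
  classical
  have hp : p.Prime := Fact.out
  choose a b ha hb hab using fun m : ZMod p =>
    split_indicator hR hp hfg (C' := {x | φ x = m}) (hφ.comp fun v => v = m)
  refine ⟨fun x => ∑ m, m * a m x, fun x => ∑ m, m * b m x,
    IsLC.sum _ fun m _ => (ha m).comp (m * ·), IsLC.sum _ fun m _ => (hb m).comp (m * ·), fun x hxf hxg => ?_⟩
  rw [← Finset.sum_sub_distrib, Finset.sum_eq_single (φ x)]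
  · rw [← mul_sub, (hab (φ x) x hxf hxg).1 rfl, mul_one]
  · intro m _ hm
    rw [← mul_sub, (hab m x hxf hxg).2 (fun h => hm h.symm), mul_zero]
  · simp

theorem split_finite (hR : Curves.IsAIC R) {f g : R} (hfg : IsCoprime f g) :
    ∀ (k : ℕ) (M : Type) [AddCommGroup M] [Finite M], Nat.card M ≤ k →
      ∀ φ : PrimeSpectrum R → M, IsLC (PrimeSpectrum.basicOpen (f * g) : Set (PrimeSpectrum R)) φ →
      ∃ a b : PrimeSpectrum R → M, IsLC (PrimeSpectrum.basicOpen f : Set (PrimeSpectrum R)) a ∧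
        IsLC (PrimeSpectrum.basicOpen g : Set (PrimeSpectrum R)) b ∧
        ∀ x ∈ PrimeSpectrum.basicOpen f, x ∈ PrimeSpectrum.basicOpen g → φ x = b x - a x := by
  intro k
  induction k with
  | zero => intro M _ _ h; exact absurd h (Nat.not_le.2 Nat.card_pos)
  | succ k ih =>
    intro M _ _ hk φ hφ
    rcases subsingleton_or_nontrivial M with hM | hM
    · exact ⟨fun _ => 0, fun _ => 0, fun _ _ => Eventually.of_forall fun _ => rfl,
        fun _ _ => Eventually.of_forall fun _ => rfl, fun _ _ _ => Subsingleton.elim _ _⟩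
    obtain ⟨p, hp, hdvd⟩ := Nat.exists_prime_and_dvd (Finite.one_lt_card (α := M)).ne'
    haveI := Fact.mk hp
    obtain ⟨x₀, hx₀⟩ := exists_prime_addOrderOf_dvd_card' p hdvd
    let ι : ZMod p →+ M := ZMod.lift p ⟨zmultiplesHom M x₀, by
      simp [← hx₀, addOrderOf_nsmul_eq_zero]⟩
    let H := AddSubgroup.zmultiples x₀
    have hH : Nat.card H = p := by rw [Nat.card_zmultiples, hx₀]
    have hcard : Nat.card (M ⧸ H) ≤ k := by
      have h1 : Nat.card M = Nat.card (M ⧸ H) * p := by
        rw [← hH]; exact AddSubgroup.card_eq_card_quotient_mul_card_addSubgroup H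
      have h2 : 0 < Nat.card (M ⧸ H) := Nat.card_pos
      nlinarith [hp.two_le]
    obtain ⟨a₁, b₁, ha₁, hb₁, hab₁⟩ := ih (M ⧸ H) hcard _ (hφ.comp (QuotientAddGroup.mk' H))
    let σ : M ⧸ H → M := Quotient.out
    have hσ : ∀ q, (QuotientAddGroup.mk' H) (σ q) = q := fun q => QuotientAddGroup.out_eq' q
    let a₂ := fun x => σ (a₁ x)
    let b₂ := fun x => σ (b₁ x)
    have hfgle : (PrimeSpectrum.basicOpen (f * g) : Set (PrimeSpectrum R)) =
        (PrimeSpectrum.basicOpen f : Set (PrimeSpectrum R)) ∩ PrimeSpectrum.basicOpen g := by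
      rw [PrimeSpectrum.basicOpen_mul]; rfl
    let ψ := fun x => φ x - (b₂ x - a₂ x)
    have hψ : IsLC (PrimeSpectrum.basicOpen (f * g) : Set (PrimeSpectrum R)) ψ :=
      hφ.map₂ (((hb₁.comp σ).mono (hfgle ▸ Set.inter_subset_right)).map₂
        ((ha₁.comp σ).mono (hfgle ▸ Set.inter_subset_left)) (· - ·)) (· - ·)
    have hψι : ∀ x ∈ (PrimeSpectrum.basicOpen (f * g) : Set (PrimeSpectrum R)), ψ x ∈ Set.range ι := by
      intro x hx
      rw [hfgle] at hx
      have : ψ x ∈ H := by
        rw [← QuotientAddGroup.eq_zero_iff]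
        show (QuotientAddGroup.mk' H) (φ x - (σ (b₁ x) - σ (a₁ x))) = 0
        rw [map_sub, map_sub, hσ, hσ]
        exact sub_eq_zero.2 (hab₁ x hx.1 hx.2)
      obtain ⟨j, hj⟩ := AddSubgroup.mem_zmultiples_iff.1 this
      exact ⟨(j : ZMod p), by simp [ι, ← hj]⟩
    obtain ⟨a₃, b₃, ha₃, hb₃, hab₃⟩ := split_zmod hR hfg (hψ.comp (Function.invFun ι))
    refine ⟨fun x => a₂ x + ι (a₃ x), fun x => b₂ x + ι (b₃ x), (ha₁.comp σ).map₂ ha₃ (fun u v => u + ι v),
      (hb₁.comp σ).map₂ hb₃ (fun u v => u + ι v), fun x hxf hxg => ?_⟩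
    have h3 := congrArg ι (hab₃ x hxf hxg)
    rw [Function.invFun_eq (hψι x (hfgle ▸ ⟨hxf, hxg⟩)), map_sub] at h3
    simp only [ψ] at h3
    rw [sub_eq_iff_eq_add] at h3
    rw [h3]
    simp only [sub_eq_add_neg, neg_add]
    abel

end AicVanishLib
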