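import Groth.Agent.AicVanishLib.Sect
import Groth.Agent.AicVanishLib.Split
import Groth.Agent.EpsLib.Flasque
import Groth.Agent.EtZarStrictLib.Basic
import Groth.Agent.CohLib.ExtShift
import Groth.Agent.CohLib.Sections
import Groth.Agent.EtShLib.CechColim

/-!
# Vanishing of étale cohomology of constant sheaves over absolutely integrally closed rings

The property propagated along injective resolutions: on two basic opens covering a basic open,
every section on the overlap is a difference.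
-/

set_option autoImplicit false
set_option linter.unusedSectionVars false
set_option linter.style.haveILetI false
set_option backward.isDefEq.respectTransparency false
set_option backward.isDefEq.respectTransparency.types false
set_option synthInstance.maxHeartbeats 400000
set_option maxHeartbeats 1000000

universe u

open CategoryTheory CategoryTheory.Limits AlgebraicGeometry Opposite TopologicalSpace CategoryTheory.Abelian
open Groth.Agent.EtShLib Groth.Agent

noncomputable section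

namespace AicVanishLib

variable {R : Type u} [CommRing R]

/-- A basic open of `Spec R`. -/
abbrev bo (f : R) : (Spec (CommRingCat.of R)).Opens := PrimeSpectrum.basicOpen f

/-- The propagated property. -/
def Splits (F : EtCoh.Ab (Spec (CommRingCat.of R))) : Prop :=
  ∀ (f g h : R), bo f ⊔ bo g = bo h → ∀ s : EtCoh.sect F (zobj (bo f ⊓ bo g)),
    ∃ (a : EtCoh.sect F (zobj (bo f))) (b : EtCoh.sect F (zobj (bo g))),
      s = res F (inf_le_right : bo f ⊓ bo g ≤ bo g) b - res F (inf_le_left : bo f ⊓ bo g ≤ bo f) a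

theorem bo_mul (a b : R) : bo (a * b) = bo a ⊓ bo b := PrimeSpectrum.basicOpen_mul a b

variable (hstalk : ∀ x : Spec (CommRingCat.of R),
  EtCoh.IsStrictlyHenselianLocalRing ((Spec (CommRingCat.of R)).presheaf.stalk x))

include hstalk in
theorem exists_local_lift {S : ShortComplex (EtCoh.Ab (Spec (CommRingCat.of R)))} (hS : S.ShortExact) {h : R}
    (s : EtCoh.sect S.X₃ (zobj (bo h))) {x : Spec (CommRingCat.of R)} (hx : x ∈ bo h) :
    ∃ (t : R) (ht : bo t ≤ bo h) (z : EtCoh.sect S.X₂ (zobj (bo t))),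
      x ∈ bo t ∧ S.g.hom.app (op (zobj (bo t))) z = res S.X₃ ht s := by
  obtain ⟨_, _⟩ := hstalk x
  haveI := hS.epi_g
  let ξ := (Spec (CommRingCat.of R)).fromSpecResidueField x
  haveI := (epi_iff_stalks S.g).1 inferInstance _ ξ
  obtain ⟨u, -⟩ := exists_fib ξ (zobj (bo h)) (⟨x, hx⟩ : (bo h : Scheme.{u}))
    (Scheme.fromSpecResidueField_apply x default).symm
  obtain ⟨p, hp⟩ := (AddCommGrpCat.epi_iff_surjective _).1 ‹_›
    (germ (A := AddCommGrpCat.{u + 1}) ξ S.X₃ (zobj (bo h)) u s)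
  obtain ⟨V, g, v, z, hg, rfl⟩ := exists_germ_below (A := AddCommGrpCat.{u + 1}) ξ p (zobj (bo h)) u
  rw [germ_natural_apply, ← hg, ← germ_res_apply] at hp
  obtain ⟨V', g', v', -, he⟩ := (germ_eq_iff ξ V v _ _).1 hp
  obtain ⟨W, hxW, ⟨k⟩⟩ := EtZarStrictLib.exists_open_lift x V' v'
  obtain ⟨_, ⟨t, rfl⟩, hxt, hts⟩ := PrimeSpectrum.isTopologicalBasis_basic_opens.exists_subset_of_mem_open
    (show x ∈ ((bo h ⊓ W : (Spec (CommRingCat.of R)).Opens) : Set _) from ⟨hx, hxW⟩) (bo h ⊓ W).isOpen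
  have ht : bo t ≤ bo h := fun y hy => (hts hy).1
  have htW : bo t ≤ W := fun y hy => (hts hy).2
  let m := (EtZar.zarToEt _).map (homOfLE htW)
  refine ⟨t, ht, S.X₂.obj.map (m ≫ k ≫ g').op z, hxt, ?_⟩
  rw [NatTrans.naturality_apply]
  show _ = S.X₃.obj.map ((EtZar.zarToEt _).map (homOfLE ht)).op s
  simp only [op_comp, Functor.map_comp, ConcreteCategory.comp_apply]
  rw [he]
  simp only [← ConcreteCategory.comp_apply, ← Functor.map_comp, ← op_comp]
  rw [zobj_hom_ext (m ≫ k ≫ g' ≫ g : zobj (bo t) ⟶ zobj (bo h)) ((EtZar.zarToEt _).map (homOfLE ht))] 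

theorem app_f_g {S : ShortComplex (EtCoh.Ab (Spec (CommRingCat.of R)))} (U : (Spec (CommRingCat.of R)).Opens)
    (y : EtCoh.sect S.X₁ (zobj U)) : S.g.hom.app (op (zobj U)) (S.f.hom.app (op (zobj U)) y) = 0 := by
  rw [← ConcreteCategory.comp_apply, ← NatTrans.comp_app,
    show S.f.hom ≫ S.g.hom = 0 from congrArg (fun k => k.hom) S.zero]
  rfl

theorem exists_lift_merge {S : ShortComplex (EtCoh.Ab (Spec (CommRingCat.of R)))} (hS : S.ShortExact)
    (hF : Splits S.X₁) {f g h : R} (hfgh : bo f ⊔ bo g = bo h) (s : EtCoh.sect S.X₃ (zobj (bo h)))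
    (hf : bo f ≤ bo h) (hg : bo g ≤ bo h)
    (t₁ : EtCoh.sect S.X₂ (zobj (bo f))) (h₁ : S.g.hom.app (op (zobj (bo f))) t₁ = res S.X₃ hf s)
    (t₂ : EtCoh.sect S.X₂ (zobj (bo g))) (h₂ : S.g.hom.app (op (zobj (bo g))) t₂ = res S.X₃ hg s) :
    ∃ t, S.g.hom.app (op (zobj (bo h))) t = s := by
  obtain ⟨d, hd⟩ := (EpsLib.sections_exact hS (zobj (bo f ⊓ bo g))).2
    (res S.X₂ inf_le_right t₂ - res S.X₂ inf_le_left t₁) (by
      rw [map_sub, app_res, app_res, h₁, h₂, res_res, res_res, sub_self])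
  obtain ⟨a, b, rfl⟩ := hF f g h hfgh d
  let u₁ := t₁ - S.f.hom.app (op (zobj (bo f))) a
  let u₂ := t₂ - S.f.hom.app (op (zobj (bo g))) b
  have hu : res S.X₂ (inf_le_left : bo f ⊓ bo g ≤ _) u₁ = res S.X₂ (inf_le_right : bo f ⊓ bo g ≤ _) u₂ := by
    rw [map_sub, app_res, app_res] at hd
    simp only [u₁, u₂, map_sub]
    have : res S.X₂ (inf_le_left : bo f ⊓ bo g ≤ _) t₁ - res S.X₂ inf_le_left (S.f.hom.app _ a) -
      (res S.X₂ (inf_le_right : bo f ⊓ bo g ≤ _) t₂ - res S.X₂ inf_le_right (S.f.hom.app _ b)) = 0 := by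
      rw [sub_sub_sub_comm, sub_eq_zero, ← neg_inj, neg_sub, neg_sub]
      exact hd.symm
    exact sub_eq_zero.1 this
  let U : Bool → (Spec (CommRingCat.of R)).Opens := fun i => bif i then bo f else bo g
  obtain ⟨T, hT⟩ := exists_glue_opens S.X₂ U (bo h) (fun i => by cases i <;> assumption)
    (fun x hx => by
      rw [← hfgh] at hx
      exact hx.elim (fun h => ⟨true, h⟩) (fun h => ⟨false, h⟩))
    (fun i => match i with | true => u₁ | false => u₂) (by
      rintro (_ | _) (_ | _)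
      · rfl
      · have := congrArg (res S.X₂ (le_of_eq (inf_comm (bo g) (bo f)))) hu
        rw [res_res, res_res] at this
        exact this.symm
      · exact hu
      · rfl)
  refine ⟨T, sect_ext S.X₃ _ _ fun x hx => ?_⟩
  rw [← hfgh] at hx
  rcases hx with hx | hx
  · refine ⟨bo f, hf, hx, ?_⟩
    rw [← app_res, show res S.X₂ hf T = u₁ from hT true, map_sub, app_f_g, sub_zero, h₁]
  · refine ⟨bo g, hg, hx, ?_⟩
    rw [← app_res, show res S.X₂ hg T = u₂ from hT false, map_sub, app_f_g, sub_zero, h₂]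

theorem exists_lift_finset {S : ShortComplex (EtCoh.Ab (Spec (CommRingCat.of R)))} (hS : S.ShortExact)
    (hF : Splits S.X₁) (T : Finset R) : ∀ (h : R) (s : EtCoh.sect S.X₃ (zobj (bo h))),
      (bo h : Set (Spec (CommRingCat.of R))) ⊆ ⋃ t ∈ T, (bo t : Set (Spec (CommRingCat.of R))) →
      (∀ t ∈ T, ∃ z, S.g.hom.app (op (zobj (bo h ⊓ bo t))) z = res S.X₃ inf_le_left s) →
      ∃ z, S.g.hom.app (op (zobj (bo h))) z = s := by
  classical
  induction T using Finset.induction with
  | empty =>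
    intro h s hcov _
    haveI := subsingleton_bot S.X₃ (U := bo h) (fun x hx => by simpa using hcov hx)
    exact ⟨0, Subsingleton.elim _ _⟩
  | insert t₀ T _ ih =>
    intro h s hcov hlift
    obtain ⟨n, hn⟩ : ∃ n : ℕ, h ^ n ∈ Ideal.span (insert t₀ (T : Set R)) := by
      change h ∈ (Ideal.span (insert t₀ (T : Set R))).radical
      rw [Ideal.radical_eq_sInf, Ideal.mem_sInf]
      rintro P ⟨hP, hPp⟩
      by_contra hhP
      obtain ⟨t, htT, ht⟩ := Set.mem_iUnion₂.1 (hcov (show (⟨P, hPp⟩ : PrimeSpectrum R) ∈ bo h from hhP))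
      exact ht (hP (Ideal.subset_span (by simpa using htT)))
    obtain ⟨a, r, hr, har⟩ := Ideal.mem_span_insert.1 hn
    have hu : bo (h * t₀) ⊔ bo (h * r) = bo h := by
      refine le_antisymm (sup_le (bo_mul h t₀ ▸ inf_le_left) (bo_mul h r ▸ inf_le_left)) fun x hx => ?_
      by_cases h0 : t₀ ∈ (x : PrimeSpectrum R).asIdeal
      · refine Or.inr fun h1 => (x.isPrime.mem_or_mem h1).elim hx fun h2 => hx ?_
        exact x.isPrime.mem_of_pow_mem n (har ▸ Ideal.add_mem _ (Ideal.mul_mem_left _ _ h0) h2)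
      · exact Or.inl fun h1 => (x.isPrime.mem_or_mem h1).elim hx h0
    have hf : bo (h * t₀) ≤ bo h := bo_mul h t₀ ▸ inf_le_left
    have hg : bo (h * r) ≤ bo h := bo_mul h r ▸ inf_le_left
    obtain ⟨z₀, hz₀⟩ := hlift t₀ (Finset.mem_insert_self _ _)
    obtain ⟨z₁, hz₁⟩ := ih (h * r) (res S.X₃ hg s) (fun x hx => by
        by_contra hxT
        have hrx : r ∉ (x : PrimeSpectrum R).asIdeal := fun hr' => hx (Ideal.mul_mem_left _ _ hr')
        refine hrx ((Ideal.span_le.2 fun t ht => ?_) hr)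
        by_contra htx
        exact hxT (Set.mem_iUnion₂.2 ⟨t, ht, htx⟩))
      (fun t ht => by
        obtain ⟨z, hz⟩ := hlift t (Finset.mem_insert_of_mem ht)
        refine ⟨res S.X₂ (inf_le_inf_right _ hg) z, ?_⟩
        rw [app_res, hz, res_res, res_res])
    refine exists_lift_merge hS hF hu s hf hg (res S.X₂ (bo_mul h t₀).le z₀) ?_ z₁ hz₁
    rw [app_res, hz₀, res_res]

include hstalk in
theorem surjective_sections_bo {S : ShortComplex (EtCoh.Ab (Spec (CommRingCat.of R)))} (hS : S.ShortExact)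
    (hF : Splits S.X₁) (h : R) : Function.Surjective (S.g.hom.app (op (zobj (bo h)))) := fun s => by
  classical
  choose t ht z hxt hz using fun (x : Spec (CommRingCat.of R)) (hx : x ∈ bo h) => exists_local_lift hstalk hS s hx
  obtain ⟨T, hT⟩ := (PrimeSpectrum.isCompact_basicOpen h).elim_finite_subcover
    (fun x : bo h => (bo (t x.1 x.2) : Set (Spec (CommRingCat.of R)))) (fun x => (bo _).isOpen)
    (fun x hx => Set.mem_iUnion.2 ⟨⟨x, hx⟩, hxt x hx⟩)
  refine exists_lift_finset hS hF (T.image fun x => t x.1 x.2) h s (fun x hx => ?_) fun t' ht' => ?_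
  · obtain ⟨y, hy, hxy⟩ := Set.mem_iUnion₂.1 (hT hx)
    exact Set.mem_iUnion₂.2 ⟨_, Finset.mem_image_of_mem _ hy, hxy⟩
  · obtain ⟨y, -, rfl⟩ := Finset.mem_image.1 ht'
    refine ⟨res S.X₂ inf_le_right (z y.1 y.2), ?_⟩
    rw [app_res, hz, res_res]

include hstalk in
theorem splits_quotient {S : ShortComplex (EtCoh.Ab (Spec (CommRingCat.of R)))} (hS : S.ShortExact)
    [Injective S.X₂] (hF : Splits S.X₁) : Splits S.X₃ := by
  intro f g h hfgh s
  have hsurj : Function.Surjective (S.g.hom.app (op (zobj (bo f ⊓ bo g)))) := by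
    have := surjective_sections_bo hstalk hS hF (f * g)
    rwa [bo_mul] at this
  obtain ⟨i, rfl⟩ := hsurj s
  let j : zobj (bo f ⊓ bo g) ⟶ zobj (bo g) := (EtZar.zarToEt _).map (homOfLE inf_le_right)
  haveI : Mono j := ⟨fun a b _ => zobj_hom_ext a b⟩
  obtain ⟨i', hi'⟩ := EpsLib.map_surjective_of_mono S.X₂ j i
  refine ⟨0, S.g.hom.app (op (zobj (bo g))) i', ?_⟩
  rw [map_zero, sub_zero, ← app_res]
  exact congrArg _ hi'.symm

include hstalk in
theorem subsingleton_H_of_splits : ∀ (p : ℕ) (G : EtCoh.Ab (Spec (CommRingCat.of R))), Splits G →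
    Subsingleton (Ext.{u + 1} (constZ (Spec (CommRingCat.of R))) G (p + 1))
  | 0, G, hG => by
    haveI : Injective (CohLib.injSC G).X₂ := inferInstanceAs (Injective (Injective.under G))
    haveI := CohLib.subsingleton_ext_injective.{u + 1} (constZ (Spec (CommRingCat.of R))) (CohLib.injSC G).X₂ 0
    refine CohLib.subsingleton_ext_one_of_lift (CohLib.injSC_shortExact G) fun s => ?_
    obtain ⟨hT⟩ := isTerminal_top (Spec (CommRingCat.of R))
    let X := Spec (CommRingCat.of R)
    let j : zobj (bo (1 : R)) ⟶ EtCoh.top X := toTop _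
    obtain ⟨k⟩ := exists_zobj_hom (T := EtCoh.top X) (U := bo (1 : R)) (fun x _ => by
      show x ∈ (PrimeSpectrum.basicOpen (1 : R) : Set (PrimeSpectrum R))
      rw [PrimeSpectrum.basicOpen_one]
      trivial)
    let s₀ := Sheaf.H.equiv₀ (CohLib.injSC G).X₃ hT (Ext.mk₀ s)
    obtain ⟨t', ht'⟩ := surjective_sections_bo hstalk (CohLib.injSC_shortExact G) hG 1
      ((CohLib.injSC G).X₃.obj.map j.op s₀)
    let t := (CohLib.injSC G).X₂.obj.map k.op t'
    have ht : (CohLib.injSC G).g.hom.app (op (EtCoh.top X)) t = s₀ := by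
      rw [NatTrans.naturality_apply, ht', ← ConcreteCategory.comp_apply, ← Functor.map_comp, ← op_comp,
        toTop_ext (k ≫ j) (𝟙 _), op_id, CategoryTheory.Functor.map_id, ConcreteCategory.id_apply]
    refine ⟨Ext.addEquiv₀ ((Sheaf.H.equiv₀ (CohLib.injSC G).X₂ hT).symm t), ?_⟩
    rw [← Sheaf.H.addEquiv₀_map, Sheaf.H.equiv₀_symm_naturality, ht, AddEquiv.symm_apply_apply]
    exact Ext.addEquiv₀.symm.injective (by simp)
  | p + 1, G, hG => by
    haveI : Injective (CohLib.injSC G).X₂ := inferInstanceAs (Injective (Injective.under G))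
    haveI := CohLib.subsingleton_ext_injective.{u + 1} (constZ (Spec (CommRingCat.of R))) (CohLib.injSC G).X₂ (p + 1)
    haveI := subsingleton_H_of_splits p _ (splits_quotient hstalk (CohLib.injSC_shortExact G) hG)
    exact CohLib.subsingleton_ext_of_shift (CohLib.injSC_shortExact G)

end AicVanishLib
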