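import Groth.Agent.AicVanishLib.Main
import Groth.Agent.EtSliceLib.MV
import Groth.Agent.EtSliceLib.Hpull

/-!
# Gabber's acyclicity criterion: injectivity of `H¹` on two-open covers
-/

set_option autoImplicit false
set_option linter.unusedSectionVars false
set_option linter.style.haveILetI false
set_option backward.isDefEq.respectTransparency false
set_option backward.isDefEq.respectTransparency.types false
set_option synthInstance.maxHeartbeats 400000
set_option maxHeartbeats 1000000

universe u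

open CategoryTheory CategoryTheory.Limits AlgebraicGeometry Opposite TopologicalSpace CategoryTheory.Abelian
open Groth.Agent.EtShLib Groth.Agent

noncomputable section

namespace AicVanishLib

section MV

variable {X : Scheme.{u}}

/-- The inclusion of opens in the étale site. -/
abbrev zmap {V U : X.Opens} (h : V ≤ U) : zobj V ⟶ zobj U := (EtZar.zarToEt X).map (homOfLE h)

theorem range_map {V U : X.Opens} (h : V ≤ U) :
    Set.range (zmap h).left.base = U.ι.base ⁻¹' (V : Set X) := by
  ext y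
  constructor
  · rintro ⟨z, rfl⟩
    show (X.homOfLE h ≫ U.ι).base z ∈ (V : Set X)
    rw [Scheme.homOfLE_ι]
    exact z.2
  · intro hy
    exact ⟨⟨U.ι.base y, hy⟩, map_mk h y hy⟩

instance {V U : X.Opens} (h : V ≤ U) : IsOpenImmersion (zmap h).left := inferInstanceAs (IsOpenImmersion (X.homOfLE h))

/-- If classes vanishing on two opens vanish, sections on the overlap are differences. -/
theorem split_of_kernel (F : EtCoh.Ab X) {U V T : X.Opens} (hU : U ≤ T) (hV : V ≤ T) (hcov : T ≤ U ⊔ V)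
    (hker : ∀ y : Ext.{u + 1} (EtSliceLib.free (zobj T)) F 1,
      (Ext.mk₀ (EtSliceLib.freeMap (zmap hU))).comp y (zero_add 1) = 0 →
      (Ext.mk₀ (EtSliceLib.freeMap (zmap hV))).comp y (zero_add 1) = 0 → y = 0)
    (s : EtCoh.sect F (zobj (U ⊓ V))) :
    ∃ (a : EtCoh.sect F (zobj U)) (b : EtCoh.sect F (zobj V)),
      s = res F (inf_le_right : U ⊓ V ≤ V) b - res F (inf_le_left : U ⊓ V ≤ U) a := by
  let i := zmap (inf_le_left : U ⊓ V ≤ U)
  let j := zmap (inf_le_right : U ⊓ V ≤ V)
  have w : i ≫ zmap hU = j ≫ zmap hV := zobj_hom_ext _ _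
  haveI : IsOpenImmersion i.left := inferInstanceAs (IsOpenImmersion (zmap _).left)
  have hS := EtSliceLib.mvFree_shortExact i j (zmap hU) (zmap hV) w (by
      rw [range_map, range_map, ← Set.preimage_union]
      exact Set.eq_univ_of_forall fun y => hcov y.2) (by
      have e : i ≫ zmap hU = zmap (inf_le_left.trans hU) := zobj_hom_ext _ _
      rw [e, range_map, range_map, range_map]
      exact fun y hy => hy)
  let d := Ext.mk₀ (EtSliceLib.desc (zobj (U ⊓ V)) s)
  have hy : (hS.extClass).comp d (add_zero 1) = 0 := by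
    refine hker _ ?_ ?_
    · rw [show EtSliceLib.freeMap (zmap hU) =
          (biprod.inl : _ ⟶ (EtSliceLib.mvFree i j (zmap hU) (zmap hV) w).X₂) ≫
            (EtSliceLib.mvFree i j (zmap hU) (zmap hV) w).g from biprod.inl_desc (EtSliceLib.freeMap _) _ |>.symm,
        ← Ext.mk₀_comp_mk₀, Ext.comp_assoc_of_second_deg_zero, hS.comp_extClass_assoc, Ext.comp_zero]
    · rw [show EtSliceLib.freeMap (zmap hV) =
          (biprod.inr : _ ⟶ (EtSliceLib.mvFree i j (zmap hU) (zmap hV) w).X₂) ≫
            (EtSliceLib.mvFree i j (zmap hU) (zmap hV) w).g from biprod.inr_desc _ (EtSliceLib.freeMap _) |>.symm,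
        ← Ext.mk₀_comp_mk₀, Ext.comp_assoc_of_second_deg_zero, hS.comp_extClass_assoc, Ext.comp_zero]
  obtain ⟨c, hc⟩ := Ext.contravariant_sequence_exact₁ hS F d (add_zero 1) hy
  obtain ⟨c, rfl⟩ := (Ext.mk₀_bijective _ _).2 c
  rw [Ext.mk₀_comp_mk₀] at hc
  have h2 := (Ext.mk₀_bijective _ _).1 hc
  have hf : (EtSliceLib.mvFree i j (zmap hU) (zmap hV) w).f =
      EtSliceLib.freeMap i ≫ biprod.inl - EtSliceLib.freeMap j ≫ biprod.inr := by
    simp [EtSliceLib.mvFree, biprod.lift_eq, sub_eq_add_neg]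
  rw [hf, Preadditive.sub_comp, Category.assoc, Category.assoc] at h2
  have h3 := congrArg (fun t : _ ⟶ F => t.hom.app (op (zobj (U ⊓ V))) (EtSliceLib.gen (zobj (U ⊓ V)))) h2
  simp only [EtSliceLib.desc_gen] at h3
  let A := (biprod.inl ≫ c).hom.app (op (zobj U)) (EtSliceLib.gen _)
  let B := (biprod.inr ≫ c).hom.app (op (zobj V)) (EtSliceLib.gen _)
  refine ⟨-A, -B, ?_⟩
  rw [map_neg, map_neg, neg_sub_neg]
  refine h3.symm.trans ?_
  show (EtSliceLib.freeMap i ≫ biprod.inl ≫ c).hom.app _ _ - (EtSliceLib.freeMap j ≫ biprod.inr ≫ c).hom.app _ _ = _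
  rw [EtSliceLib.freeMap_app i (biprod.inl ≫ c), EtSliceLib.freeMap_app j (biprod.inr ≫ c)]
  rfl

/-- The comparison of `Ext` of a free sheaf with cohomology of an open. -/
def psiO (F : EtCoh.Ab X) (T : X.Opens) :
    Ext.{u + 1} (EtSliceLib.free (zobj T)) F 1 →+ EtCoh.H (T : Scheme.{u}) ((EtCoh.pull T.ι).obj F) 1 :=
  EtSliceLib.psi (zobj T) F 1

theorem psiO_injective (F : EtCoh.Ab X) (T : X.Opens) : Function.Injective (psiO F T) :=
  (EtSliceLib.psi_bijective (zobj T) 1 F).1

theorem HpullVia_psiO (F : EtCoh.Ab X) {U T : X.Opens} (h : U ≤ T)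
    [PreservesFiniteLimits (EtCoh.pull (X.homOfLE h))] (y : Ext.{u + 1} (EtSliceLib.free (zobj T)) F 1)
    (hy : (Ext.mk₀ (EtSliceLib.freeMap (zmap h))).comp y (zero_add 1) = 0) :
    EtCore.HpullVia (X.homOfLE h) T.ι U.ι (X.homOfLE_ι h) F 1 (psiO F T y) = 0 := by
  haveI : PreservesFiniteLimits (EtCoh.pull (zmap h).left) := EtSliceLib.pullExact _
  exact (EtSliceLib.HpullVia_eq_psi (zmap h) F 1 y).trans (by rw [hy, map_zero])

/-- Glueing of two sections. -/
theorem exists_glue_two (F : EtCoh.Ab X) {A B V : X.Opens} (hA : A ≤ V) (hB : B ≤ V) (hcov : V ≤ A ⊔ B)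
    (t₁ : EtCoh.sect F (zobj A)) (t₂ : EtCoh.sect F (zobj B))
    (h : res F (inf_le_left : A ⊓ B ≤ A) t₁ = res F (inf_le_right : A ⊓ B ≤ B) t₂) :
    ∃ T, res F hA T = t₁ ∧ res F hB T = t₂ := by
  let U : Bool → X.Opens := fun i => bif i then A else B
  obtain ⟨T, hT⟩ := exists_glue_opens F U V (fun i => by cases i <;> assumption)
    (fun x hx => (hcov hx).elim (fun h => ⟨true, h⟩) (fun h => ⟨false, h⟩))
    (fun i => match i with | true => t₁ | false => t₂) (by
      rintro (_ | _) (_ | _)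
      · rfl
      · have := congrArg (res F (le_of_eq (inf_comm B A))) h
        rw [res_res, res_res] at this
        exact this.symm
      · exact h
      · rfl)
  exact ⟨T, hT true, hT false⟩

end MV

variable {R : Type u} [CommRing R]

/-- The kernel condition in Gabber's criterion gives the splitting property. -/
theorem splits_of_add (F : EtCoh.Ab (Spec (CommRingCat.of R)))
    (h : ∀ f g : R, ∀ s : EtCoh.sect F (zobj (bo (f * (f + g)) ⊓ bo (g * (f + g)))),
      ∃ (a : EtCoh.sect F (zobj (bo (f * (f + g))))) (b : EtCoh.sect F (zobj (bo (g * (f + g))))),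
        s = res F inf_le_right b - res F inf_le_left a) : Splits F := by
  intro f g k hk s
  have hfk : bo f ≤ bo k := hk ▸ le_sup_left
  have hgk : bo g ≤ bo k := hk ▸ le_sup_right
  obtain ⟨n, hn⟩ : k ∈ (Ideal.span {f, g}).radical := by
    rw [Ideal.radical_eq_sInf, Ideal.mem_sInf]
    rintro P ⟨hP, hPp⟩
    by_contra hkP
    have : (⟨P, hPp⟩ : PrimeSpectrum R) ∈ bo f ⊔ bo g := by rw [hk]; exact hkP
    rcases this with h1 | h1
    · exact h1 (hP (Ideal.subset_span (by simp)))
    · exact h1 (hP (Ideal.subset_span (by simp)))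
  obtain ⟨α, β, hαβ⟩ := Ideal.mem_span_pair.1 hn
  let f' := α * f * (α * f + β * g)
  let g' := β * g * (α * f + β * g)
  have hf' : bo f' ≤ bo f := fun x hx hfx => hx (Ideal.mul_mem_right _ _ (Ideal.mul_mem_left _ _ hfx))
  have hg' : bo g' ≤ bo g := fun x hx hgx => hx (Ideal.mul_mem_right _ _ (Ideal.mul_mem_left _ _ hgx))
  have hcov : bo k ≤ bo f' ⊔ bo g' := fun x hx => by
    have hkn : α * f + β * g ∉ (x : PrimeSpectrum R).asIdeal := fun h1 => by
      rw [hαβ] at h1
      exact hx (x.isPrime.mem_of_pow_mem n h1)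
    by_cases h1 : α * f ∈ (x : PrimeSpectrum R).asIdeal
    · exact Or.inr fun h2 => (x.isPrime.mem_or_mem h2).elim
        (fun h3 => hkn (Ideal.add_mem _ h1 h3)) hkn
    · exact Or.inl fun h2 => (x.isPrime.mem_or_mem h2).elim h1 hkn
  obtain ⟨a₀, b₀, h₀⟩ := h (α * f) (β * g) (res F (inf_le_inf hf' hg') s)
  have key : ∀ (W : (Spec (CommRingCat.of R)).Opens) (hWf : W ≤ bo f') (hWg : W ≤ bo g'),
      res F (le_inf (hWf.trans hf') (hWg.trans hg')) s = res F hWg b₀ - res F hWf a₀ := fun W hWf hWg => by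
    have := congrArg (res F (le_inf hWf hWg : W ≤ bo f' ⊓ bo g')) h₀
    rwa [map_sub, res_res, res_res, res_res] at this
  -- extend `a₀` to `D f` and `b₀` to `D g`
  obtain ⟨a, ha₁, ha₂⟩ := exists_glue_two F (A := bo f') (B := bo f ⊓ bo g') (V := bo f) hf' inf_le_left
    (fun x hx => (hcov (hfk hx)).elim Or.inl (fun h1 => Or.inr ⟨hx, h1⟩))
    a₀ (res F inf_le_right b₀ - res F (inf_le_inf_left _ hg') s) (by
      rw [map_sub, res_res, res_res, key _ inf_le_left (inf_le_right.trans inf_le_right)]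
      exact (sub_sub_cancel _ _).symm)
  obtain ⟨b, hb₁, hb₂⟩ := exists_glue_two F (A := bo g') (B := bo f' ⊓ bo g) (V := bo g) hg' inf_le_right
    (fun x hx => (hcov (hgk hx)).elim (fun h1 => Or.inr ⟨h1, hx⟩) Or.inl)
    b₀ (res F inf_le_left a₀ + res F (inf_le_inf_right _ hf') s) (by
      rw [map_add, res_res, res_res, key _ (inf_le_right.trans inf_le_left) inf_le_left]
      exact (add_sub_cancel _ _).symm)
  refine ⟨a, b, sect_ext F _ _ fun x hx => ?_⟩
  rcases hcov (hfk hx.1) with h1 | h1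
  · refine ⟨bo f' ⊓ bo g, inf_le_inf_right _ hf', ⟨h1, hx.2⟩, ?_⟩
    have e1 : res F (inf_le_left.trans hf' : bo f' ⊓ bo g ≤ bo f) a = res F inf_le_left a₀ := by
      rw [← res_res F hf' inf_le_left]
      exact congrArg _ ha₁
    have e2 : res F (inf_le_right : bo f' ⊓ bo g ≤ bo g) b = res F inf_le_left a₀ + res F (inf_le_inf_right _ hf') s :=
      hb₂
    rw [map_sub, res_res, res_res, e1, e2, add_sub_cancel_left]
  · refine ⟨bo f ⊓ bo g', inf_le_inf_left _ hg', ⟨hx.1, h1⟩, ?_⟩
    have e1 : res F (inf_le_right.trans hg' : bo f ⊓ bo g' ≤ bo g) b = res F inf_le_right b₀ := by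
      rw [← res_res F hg' inf_le_right]
      exact congrArg _ hb₁
    have e2 : res F (inf_le_left : bo f ⊓ bo g' ≤ bo f) a = res F inf_le_right b₀ - res F (inf_le_inf_left _ hg') s :=
      ha₂
    rw [map_sub, res_res, res_res, e1, e2, sub_sub_cancel]

theorem gabber_criterion (hR : ∀ p : PrimeSpectrum R, EtCoh.IsStrictlyHenselianLocalRing (Localization.AtPrime p.asIdeal))
    (F : EtCoh.Ab (Spec (CommRingCat.of R)))
    (hker : ∀ (f g : Γ((Spec (CommRingCat.of R)), ⊤))
      [PreservesFiniteLimits (EtCoh.pull ((Spec (CommRingCat.of R)).homOfLE (((Spec (CommRingCat.of R)).basicOpen_mul f (f + g)).trans_le inf_le_right)))]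
      [PreservesFiniteLimits (EtCoh.pull ((Spec (CommRingCat.of R)).homOfLE (((Spec (CommRingCat.of R)).basicOpen_mul g (f + g)).trans_le inf_le_right)))]
      (ξ : EtCoh.H ↑((Spec (CommRingCat.of R)).basicOpen (f + g)) ((EtCoh.pull ((Spec (CommRingCat.of R)).basicOpen (f + g)).ι).obj F) 1),
      EtCore.HpullVia ((Spec (CommRingCat.of R)).homOfLE (((Spec (CommRingCat.of R)).basicOpen_mul f (f + g)).trans_le inf_le_right)) ((Spec (CommRingCat.of R)).basicOpen (f + g)).ι ((Spec (CommRingCat.of R)).basicOpen (f * (f + g))).ι ((Spec (CommRingCat.of R)).homOfLE_ι (((Spec (CommRingCat.of R)).basicOpen_mul f (f + g)).trans_le inf_le_right)) F 1 ξ = 0 →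
      EtCore.HpullVia ((Spec (CommRingCat.of R)).homOfLE (((Spec (CommRingCat.of R)).basicOpen_mul g (f + g)).trans_le inf_le_right)) ((Spec (CommRingCat.of R)).basicOpen (f + g)).ι ((Spec (CommRingCat.of R)).basicOpen (g * (f + g))).ι ((Spec (CommRingCat.of R)).homOfLE_ι (((Spec (CommRingCat.of R)).basicOpen_mul g (f + g)).trans_le inf_le_right)) F 1 ξ = 0 →
      ξ = 0)
    (q : ℕ) (hq : 1 ≤ q) : Subsingleton (EtCoh.H (Spec (CommRingCat.of R)) F q) := by
  obtain ⟨p, rfl⟩ : ∃ p, q = p + 1 := ⟨q - 1, by omega⟩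
  refine subsingleton_H_of_splits (fun x => isStrictlyHenselian_stalk_iff x (hR x)) p F (splits_of_add F fun f g => ?_)
  let e := (Scheme.ΓSpecIso (CommRingCat.of R)).inv
  have hbo : ∀ a : R, (Spec (CommRingCat.of R)).basicOpen (e a) = bo a := fun a => basicOpen_eq_of_affine (R := CommRingCat.of R) a
  have hadd : (e f + e g) = e (f + g) := (map_add e.hom f g).symm
  have key := split_of_kernel F (U := (Spec (CommRingCat.of R)).basicOpen (e f * (e f + e g)))
    (V := (Spec (CommRingCat.of R)).basicOpen (e g * (e f + e g))) (T := (Spec (CommRingCat.of R)).basicOpen (e f + e g))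
    (((Spec (CommRingCat.of R)).basicOpen_mul _ _).trans_le inf_le_right)
    (((Spec (CommRingCat.of R)).basicOpen_mul _ _).trans_le inf_le_right) (by
      intro x hx
      rw [hadd, hbo] at hx
      rw [hadd, ← map_mul, ← map_mul, hbo, hbo]
      by_cases h1 : f ∈ (x : PrimeSpectrum R).asIdeal
      · exact Or.inr fun h2 => (x.isPrime.mem_or_mem h2).elim (fun h3 => hx (Ideal.add_mem _ h1 h3)) hx
      · exact Or.inl fun h2 => (x.isPrime.mem_or_mem h2).elim h1 hx)
    (fun y h1 h2 => by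
      refine psiO_injective F _ (Eq.trans ?_ (map_zero _).symm)
      exact hker (e f) (e g) _ (HpullVia_psiO F _ y h1) (HpullVia_psiO F _ y h2))
  rw [hadd, ← map_mul, ← map_mul, hbo, hbo] at key
  exact key

end AicVanishLib
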