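import Mathlib
import Groth.Prelude.Def_Curves

/-!
# Absolutely integrally closed rings: quotients, localizations, examples
-/

set_option autoImplicit false
set_option linter.unusedSectionVars false

universe u v

open Polynomial

namespace AicVanishLib

theorem isAIC_of_surjective {R : Type u} {S : Type v} [CommRing R] [CommRing S] (φ : R →+* S)
    (hφ : Function.Surjective φ) (h : Curves.IsAIC R) : Curves.IsAIC S := fun g hg hd => by
  haveI : Nontrivial S := Polynomial.nontrivial_iff.1 <| nontrivial_of_ne g 0 (by rintro rfl; simp at hd)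
  obtain ⟨f, hf, hfd, hfm⟩ := lifts_and_natDegree_eq_and_monic
    ((mem_lifts g).2 (map_surjective φ hφ g)) hg
  obtain ⟨r, hr⟩ := h f hfm (hfd ▸ hd)
  exact ⟨φ r, by rw [← hf, eval_map, eval₂_at_apply, hr, map_zero]⟩

theorem isAIC_localization {R : Type u} {S : Type v} [CommRing R] [CommRing S] [Algebra R S] (M : Submonoid R)
    [IsLocalization M S] (h : Curves.IsAIC R) : Curves.IsAIC S := fun F hF hd => by
  haveI : Nontrivial S := Polynomial.nontrivial_iff.1 <| nontrivial_of_ne F 0 (by rintro rfl; simp at hd)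
  obtain ⟨s, hs⟩ := IsLocalization.exist_integer_multiples_of_finset M F.coeffs
  let σ := algebraMap R S (s : R)
  have hlift : F.scaleRoots σ ∈ Polynomial.lifts (algebraMap R S) := by
    rw [Polynomial.lifts_iff_coeff_lifts]
    intro n
    rw [Polynomial.coeff_scaleRoots]
    rcases lt_trichotomy n F.natDegree with h | h | h
    · by_cases h0 : F.coeff n = 0
      · exact ⟨0, by rw [h0, zero_mul, map_zero]⟩
      obtain ⟨c, hc⟩ := hs _ (Polynomial.coeff_mem_coeffs h0)
      refine ⟨c * (s : R) ^ (F.natDegree - n - 1), ?_⟩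
      rw [map_mul, map_pow, hc, Algebra.smul_def, show F.natDegree - n = (F.natDegree - n - 1) + 1 by omega, pow_succ]
      simp only [σ, Nat.add_sub_cancel]
      ring
    · exact ⟨1, by rw [h, hF.coeff_natDegree, Nat.sub_self, pow_zero, mul_one, map_one]⟩
    · exact ⟨0, by rw [Polynomial.coeff_eq_zero_of_natDegree_lt h, zero_mul, map_zero]⟩
  obtain ⟨G, hG, hGd, hGm⟩ := Polynomial.lifts_and_natDegree_eq_and_monic hlift
    ((Polynomial.monic_scaleRoots_iff σ).2 hF)
  obtain ⟨v, hv⟩ := h G hGm (by rw [hGd, natDegree_scaleRoots]; exact hd)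
  have h2 : (F.scaleRoots σ).eval (algebraMap R S v) = 0 := by
    rw [← hG, Polynomial.eval_map, Polynomial.eval₂_at_apply, hv, map_zero]
  obtain ⟨u, hu⟩ := IsLocalization.map_units S s
  refine ⟨↑u⁻¹ * algebraMap R S v, ?_⟩
  rw [show algebraMap R S v = σ * (↑u⁻¹ * algebraMap R S v) by
    rw [← mul_assoc, show σ = (u : S) from hu.symm, Units.mul_inv, one_mul],
    Polynomial.scaleRoots_eval_mul] at h2
  exact ((u.isUnit.pow _).mul_right_eq_zero).1 (by rw [hu]; exact h2)

theorem exists_multiset {R : Type u} [CommRing R] (h : Curves.IsAIC R) : ∀ f : R[X], f.Monic →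
    ∃ s : Multiset R, f = (s.map fun a => X - C a).prod := by
  suffices ∀ (n : ℕ) (f : R[X]), f.Monic → f.natDegree = n →
      ∃ s : Multiset R, f = (s.map fun a => X - C a).prod from fun f hf => this _ f hf rfl
  intro n
  induction n with
  | zero => intro f hf hn; exact ⟨0, by simp [eq_one_of_monic_natDegree_zero hf hn]⟩
  | succ n ih =>
    intro f hf hn
    haveI : Nontrivial R := Polynomial.nontrivial_iff.1 <| nontrivial_of_ne f 0 (by rintro rfl; simp at hn)
    obtain ⟨v, hv⟩ := h f hf (by omega)
    have hfac := mul_divByMonic_eq_iff_isRoot.2 (show f.IsRoot v from hv)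
    have hm : (f /ₘ (X - C v)).Monic := (monic_X_sub_C v).of_mul_monic_left (hfac.symm ▸ hf)
    obtain ⟨s, hs⟩ := ih _ hm (by rw [natDegree_divByMonic _ (monic_X_sub_C v), natDegree_X_sub_C, hn]; omega)
    exact ⟨v ::ₘ s, by rw [Multiset.map_cons, Multiset.prod_cons, ← hs, hfac]⟩

theorem isAIC_integralClosure (P : Type u) (Ω : Type v) [CommRing P] [Field Ω] [IsAlgClosed Ω] [Algebra P Ω] :
    Curves.IsAIC (integralClosure P Ω) := fun f hf hd => by
  obtain ⟨x, hx⟩ := IsAlgClosed.exists_root (f.map (algebraMap (integralClosure P Ω) Ω)) (by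
    rw [hf.degree_map, degree_eq_natDegree hf.ne_zero]
    exact_mod_cast hd.ne')
  have hxi : IsIntegral (integralClosure P Ω) x := ⟨f, hf, by rwa [IsRoot.def, eval_map] at hx⟩
  have hxP : IsIntegral P x := isIntegral_trans x hxi
  refine ⟨⟨x, hxP⟩, Subtype.ext ?_⟩
  rw [IsRoot.def, eval_map, show x = algebraMap (integralClosure P Ω) Ω ⟨x, hxP⟩ from rfl,
    eval₂_at_apply] at hx
  exact hx

/-- Modulo a nonzero ideal, a normal domain with separably closed fraction field is absolutely
integrally closed. -/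
theorem isAIC_quotient_of_sepClosed {A : Type u} [CommRing A] [IsDomain A] [IsIntegrallyClosed A]
    (K : Type v) [Field K] [Algebra A K] [IsFractionRing A K] [IsSepClosed K] (I : Ideal A) (hI : I ≠ ⊥) :
    Curves.IsAIC (A ⧸ I) := fun g hg hd => by
  classical
  haveI : Nontrivial (A ⧸ I) := Polynomial.nontrivial_iff.1 <| nontrivial_of_ne g 0 (by rintro rfl; simp at hd)
  obtain ⟨f, hf, hfd, hfm⟩ := lifts_and_natDegree_eq_and_monic
    ((mem_lifts g).2 (map_surjective _ Ideal.Quotient.mk_surjective g)) hg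
  rw [← hfd] at hd
  obtain h1 | h2 : f.natDegree = 1 ∨ 2 ≤ f.natDegree := by omega
  · refine ⟨Ideal.Quotient.mk I (-f.coeff 0), ?_⟩
    rw [← hf, eval_map, eval₂_at_apply]
    conv_lhs => rw [hfm.eq_X_add_C h1]
    simp
  have hinj := IsFractionRing.injective A K
  obtain ⟨i, hiI, hi0⟩ := Submodule.exists_mem_ne_zero_of_ne_bot hI
  obtain ⟨a, haI, hne⟩ : ∃ a ∈ I, derivative f + C a ≠ 0 := by
    by_cases h : derivative f = 0
    · exact ⟨i, hiI, by rwa [h, zero_add, Ne, C_eq_zero]⟩
    · exact ⟨0, I.zero_mem, by rwa [C_0, add_zero]⟩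
  haveI : Infinite K := by
    by_contra hfin
    haveI := not_infinite_iff_finite.1 hfin
    haveI : IsAlgClosed K := inferInstance
    exact hfin inferInstance
  haveI : Infinite A := by
    by_contra hfin
    haveI := not_infinite_iff_finite.1 hfin
    haveI : Finite K := Finite.of_surjective (fun p : A × A => algebraMap A K p.1 / algebraMap A K p.2)
      fun z => by obtain ⟨x, y, -, rfl⟩ := IsFractionRing.div_surjective (A := A) z; exact ⟨(x, y), rfl⟩
    exact not_finite K
  let Ω := AlgebraicClosure K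
  let φ : A →+* Ω := (algebraMap K Ω).comp (algebraMap A K)
  have hφ : Function.Injective φ := (algebraMap K Ω).injective.comp hinj
  let f₁ := f + C a * X
  let bad : Set Ω := (fun x => -(f₁.map φ).eval x) '' {x | (derivative f₁).map φ |>.IsRoot x}
  have hd1 : derivative f₁ = derivative f + C a := by simp [f₁]
  have hbad : bad.Finite := (finite_setOf_isRoot (by rwa [hd1, Ne, Polynomial.map_eq_zero_iff hφ])).image _
  have hIinf : (I : Set A).Infinite :=
    Set.infinite_coe_iff.1 (Infinite.of_injective (fun x => (⟨x * i, I.mul_mem_left x hiI⟩ : (I : Set A)))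
      fun x y h => mul_right_cancel₀ hi0 (congrArg Subtype.val h))
  obtain ⟨c, hcI, hc⟩ := (hIinf.diff (hbad.preimage hφ.injOn)).nonempty
  let p := f₁ + C c
  have hpdeg : (C a * X + C c).degree < f.degree := by
    refine lt_of_le_of_lt (degree_linear_le) ?_
    rw [degree_eq_natDegree hfm.ne_zero]
    exact_mod_cast h2
  have hpm : p.Monic := by
    simp only [p, f₁, add_assoc]
    exact hfm.add_of_left hpdeg
  have hsep : (p.map (algebraMap A K)).Separable := by
    refine (isCoprime_iff_aeval_ne_zero_of_isAlgClosed K Ω _ _).2 fun x => ?_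
    rw [derivative_map, ← eval_map_algebraMap, ← eval_map_algebraMap, Polynomial.map_map, Polynomial.map_map]
    refine or_iff_not_imp_left.2 fun h1 h2 => hc ?_
    rw [not_not] at h1
    refine ⟨x, ?_, ?_⟩
    · simpa [p, IsRoot.def] using h2
    · have : (f₁.map φ).eval x + φ c = 0 := by simpa [p, φ] using h1
      show -(f₁.map φ).eval x = φ c
      linear_combination -this
  obtain ⟨x, hx⟩ := IsSepClosed.exists_root (p.map (algebraMap A K)) (by
    rw [hpm.degree_map, show p = f + (C a * X + C c) by simp [p, f₁, add_assoc],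
      degree_add_eq_left_of_degree_lt hpdeg, degree_eq_natDegree hfm.ne_zero]
    exact_mod_cast (show f.natDegree ≠ 0 by omega)) hsep
  rw [IsRoot.def, eval_map] at hx
  obtain ⟨y, rfl⟩ := IsIntegrallyClosed.isIntegral_iff.1 (show IsIntegral A x from ⟨p, hpm, hx⟩)
  rw [eval₂_at_apply, ← map_zero (algebraMap A K)] at hx
  refine ⟨Ideal.Quotient.mk I y, ?_⟩
  rw [← hf, eval_map, eval₂_at_apply, Ideal.Quotient.eq_zero_iff_mem]
  have h0 : f.eval y = -(a * y + c) := by
    have := hinj hx
    simp only [p, f₁, eval_add, eval_mul, eval_C, eval_X] at this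
    linear_combination this
  rw [h0]
  exact I.neg_mem (I.add_mem (I.mul_mem_right _ haI) hcI)

end AicVanishLib
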