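import Groth.Agent.AicVanishLib.Coh
import Groth.Agent.AicVanishLib.Rings
import Groth.Agent.S1992
import Groth.Agent.S0090
import Groth.Agent.S0642
import Groth.Agent.WLocalLib.Localize
import Groth.Agent.BlowRegLib.GoingDownFibre

/-!
# Constant sheaves over absolutely integrally closed rings are acyclic; Gabber's affine examples
-/

set_option autoImplicit false
set_option linter.unusedSectionVars false
set_option linter.style.haveILetI false
set_option backward.isDefEq.respectTransparency false
set_option backward.isDefEq.respectTransparency.types false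
set_option synthInstance.maxHeartbeats 400000
set_option maxHeartbeats 1000000

universe u

open CategoryTheory CategoryTheory.Limits AlgebraicGeometry Opposite TopologicalSpace CategoryTheory.Abelian
open Groth.Agent.EtShLib Groth.Agent
open scoped Topology

noncomputable section

namespace AicVanishLib

variable {R : Type u} [CommRing R]

theorem isStrictlyHenselian_stalk_iff (x : Spec (CommRingCat.of R))
    (h : EtCoh.IsStrictlyHenselianLocalRing (Localization.AtPrime (x : PrimeSpectrum R).asIdeal)) :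
    EtCoh.IsStrictlyHenselianLocalRing ((Spec (CommRingCat.of R)).presheaf.stalk x) := by
  let k : Algebra R ↑((Spec (CommRingCat.of R)).presheaf.stalk x) := StructureSheaf.stalkAlgebra R x
  haveI : IsLocalization.AtPrime (↑((Spec (CommRingCat.of R)).presheaf.stalk x)) (x : PrimeSpectrum R).asIdeal :=
    StructureSheaf.IsLocalization.to_stalk R x
  exact WLocalLib.isStrictlyHenselian_of_ringEquiv
    (IsLocalization.algEquiv (x : PrimeSpectrum R).asIdeal.primeCompl
      (Localization.AtPrime (x : PrimeSpectrum R).asIdeal) ((Spec (CommRingCat.of R)).presheaf.stalk x)).toRingEquiv h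

/-- On a basic open covered by two smaller ones, sections of a finite constant sheaf on the overlap split. -/
theorem splits_const (hR : Curves.IsAIC R) (M : Type) [AddCommGroup M] [Finite M] :
    Splits (EtCoh.const (Spec (CommRingCat.of R)) M) := by
  intro f g h hfgh s
  obtain ⟨φ, hφ⟩ := exists_fun M s
  let A := Localization.Away h
  let π : PrimeSpectrum A → PrimeSpectrum R := PrimeSpectrum.comap (algebraMap R A)
  have hπ : Topology.IsOpenEmbedding π := PrimeSpectrum.localization_away_isOpenEmbedding A h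
  have hrange : Set.range π = (PrimeSpectrum.basicOpen h : Set (PrimeSpectrum R)) := PrimeSpectrum.localization_away_comap_range A h
  have hcop : IsCoprime (algebraMap R A f) (algebraMap R A g) := by
    have htop : Ideal.span {algebraMap R A f, algebraMap R A g} = ⊤ := by
      by_contra hne
      obtain ⟨P, hP, hle⟩ := Ideal.exists_le_maximal _ hne
      have hmem : π ⟨P, hP.isPrime⟩ ∈ (PrimeSpectrum.basicOpen h : Set (PrimeSpectrum R)) := hrange ▸ Set.mem_range_self _
      replace hmem : π ⟨P, hP.isPrime⟩ ∈ bo h := hmem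
      rw [← hfgh] at hmem
      rcases hmem with h1 | h1
      · exact h1 (hle (Ideal.subset_span (by simp)))
      · exact h1 (hle (Ideal.subset_span (by simp)))
    obtain ⟨a, b, hab⟩ := Ideal.mem_span_pair.1 (htop ▸ Submodule.mem_top (x := (1 : A)))
    exact ⟨a, b, hab⟩
  have hφ' : IsLC (PrimeSpectrum.basicOpen (algebraMap R A f * algebraMap R A g) : Set (PrimeSpectrum A))
      (fun q => φ (π q)) := by
    intro q hq
    have hq' : π q ∈ bo f ⊓ bo g := by
      rw [PrimeSpectrum.basicOpen_mul] at hq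
      exact ⟨hq.1, hq.2⟩
    obtain ⟨W, hW, hxW, -, hconst⟩ := hφ _ hq'
    filter_upwards [hπ.continuous.continuousAt.preimage_mem_nhds (W.isOpen.mem_nhds hxW)] with q' hq''
    exact hconst _ hq''
  obtain ⟨a', b', ha', hb', hab⟩ := split_finite (isAIC_localization (Submonoid.powers h) hR) hcop _ M le_rfl _ hφ'
  haveI : Nonempty M := ⟨0⟩
  let a : Spec (CommRingCat.of R) → M := Function.extend π a' 0
  let b : Spec (CommRingCat.of R) → M := Function.extend π b' 0
  have hlc : ∀ (t : R) (c : PrimeSpectrum A → M), bo t ≤ bo h →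
      IsLC (PrimeSpectrum.basicOpen (algebraMap R A t) : Set (PrimeSpectrum A)) c →
      ∀ x ∈ bo t, ∀ᶠ y in 𝓝 x, Function.extend π c 0 y = Function.extend π c 0 x := by
    intro t c ht hc x hx
    obtain ⟨q, rfl⟩ : x ∈ Set.range π := by rw [hrange]; exact ht hx
    rw [← hπ.map_nhds_eq q]
    refine Filter.eventually_map.2 ((hc q hx).mono fun q' hq' => ?_)
    rw [hπ.injective.extend_apply, hπ.injective.extend_apply, hq']
  have hf : bo f ≤ bo h := hfgh ▸ le_sup_left
  have hg : bo g ≤ bo h := hfgh ▸ le_sup_right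
  obtain ⟨sa, hsa⟩ := exists_section M (U := bo f) a (hlc f a' hf ha')
  obtain ⟨sb, hsb⟩ := exists_section M (U := bo g) b (hlc g b' hg hb')
  refine ⟨sa, sb, sect_ext _ _ _ fun x hx => ?_⟩
  obtain ⟨W, hW, hxW, hres, hconst⟩ := hφ x hx
  obtain ⟨Ua, hUa, hUao, hxa⟩ := eventually_nhds_iff.1 (hlc f a' hf ha' x hx.1)
  obtain ⟨Ub, hUb, hUbo, hxb⟩ := eventually_nhds_iff.1 (hlc g b' hg hb' x hx.2)
  let V : (Spec (CommRingCat.of R)).Opens := W ⊓ ⟨Ua, hUao⟩ ⊓ ⟨Ub, hUbo⟩
  have hV : V ≤ bo f ⊓ bo g := fun y hy => hW hy.1.1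
  refine ⟨V, hV, ⟨⟨hxW, hxa⟩, hxb⟩, ?_⟩
  have hVW : V ≤ W := fun y hy => hy.1.1
  rw [← res_res _ hW hVW, hres, res_cst, map_sub, res_res, res_res,
    hsb V (fun y hy => (hV hy).2) (b x) (fun y hy => hUb y hy.2),
    hsa V (fun y hy => (hV hy).1) (a x) (fun y hy => hUa y hy.1.2), ← map_sub]
  obtain ⟨q, rfl⟩ : x ∈ Set.range π := by rw [hrange]; exact hf hx.1
  simp only [a, b, hπ.injective.extend_apply]
  exact congrArg _ (hab q hx.1 hx.2)

/-- Over a domain the splitting is trivial. -/
theorem splits_const_domain [IsDomain R] (M : Type) [AddCommGroup M] :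
    Splits (EtCoh.const (Spec (CommRingCat.of R)) M) := by
  intro f g h hfgh s
  obtain ⟨φ, hφ⟩ := exists_fun M s
  let η : PrimeSpectrum R := ⟨⊥, Ideal.isPrime_bot⟩
  refine ⟨0, cst M _ (φ η), ?_⟩
  rw [map_zero, sub_zero, res_cst]
  refine sect_ext _ _ _ fun x hx => ?_
  obtain ⟨W, hW, hxW, hres, hconst⟩ := hφ x hx
  refine ⟨W, hW, hxW, ?_⟩
  rw [hres, res_cst, hconst η (((PrimeSpectrum.le_iff_specializes η x).1 bot_le).mem_open W.isOpen hxW)]

theorem subsingleton_H (hstalk : ∀ x : Spec (CommRingCat.of R),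
      EtCoh.IsStrictlyHenselianLocalRing ((Spec (CommRingCat.of R)).presheaf.stalk x))
    (M : Type) [AddCommGroup M] (hM : Splits (EtCoh.const (Spec (CommRingCat.of R)) M)) (i : ℕ) (hi : 0 < i) :
    Subsingleton (EtCoh.H (Spec (CommRingCat.of R)) (EtCoh.const (Spec (CommRingCat.of R)) M) i) := by
  obtain ⟨p, rfl⟩ : ∃ p, i = p + 1 := ⟨i - 1, by omega⟩
  exact subsingleton_H_of_splits hstalk p _ hM

/-- Finite constant sheaves over absolutely integrally closed rings are acyclic. -/
theorem subsingleton_H_of_isAIC (hR : Curves.IsAIC R) (M : Type) [AddCommGroup M] [Finite M] (i : ℕ) (hi : 0 < i) :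
    Subsingleton (EtCoh.H (Spec (CommRingCat.of R)) (EtCoh.const (Spec (CommRingCat.of R)) M) i) :=
  subsingleton_H (fun x => isStrictlyHenselian_stalk_iff x
    (Groth.Agent.S1992.result R (exists_multiset hR) (x : PrimeSpectrum R).asIdeal)) M (splits_const hR M) i hi

theorem subsingleton_H_of_normal [IsDomain R] [IsIntegrallyClosed R] (K : Type u) [Field K] [Algebra R K]
    [IsFractionRing R K] [IsSepClosed K] (M : Type) [AddCommGroup M] (i : ℕ) (hi : 0 < i) :
    Subsingleton (EtCoh.H (Spec (CommRingCat.of R)) (EtCoh.const (Spec (CommRingCat.of R)) M) i) := by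
  refine subsingleton_H (fun x => isStrictlyHenselian_stalk_iff x ?_) M (splits_const_domain M) i hi
  let P : Ideal R := (x : PrimeSpectrum R).asIdeal
  haveI : P.IsPrime := (x : PrimeSpectrum R).isPrime
  haveI : IsIntegrallyClosed (Localization.AtPrime P) :=
    isIntegrallyClosed_of_isLocalization (Localization.AtPrime P) P.primeCompl P.primeCompl_le_nonZeroDivisors
  letI : Algebra (Localization.AtPrime P) K := (IsLocalization.lift (M := P.primeCompl) (g := algebraMap R K)
    (fun y => (map_ne_zero_iff _ (IsFractionRing.injective R K)).2 (fun h => y.2 (show (y : R) ∈ P by rw [h]; exact P.zero_mem)) |>.isUnit)).toAlgebra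
  haveI : IsScalarTower R (Localization.AtPrime P) K :=
    IsScalarTower.of_algebraMap_eq fun r => (IsLocalization.lift_eq _ r).symm
  haveI : IsFractionRing (Localization.AtPrime P) K :=
    IsFractionRing.isFractionRing_of_isDomain_of_isLocalization P.primeCompl (Localization.AtPrime P) K
  exact Groth.Agent.S0090.isStrictlyHenselian (R := Localization.AtPrime P) K

/-- Transport along an isomorphism of schemes. -/
theorem subsingleton_H_of_iso {Y Y' : Scheme.{u}} (e : Y ≅ Y') (M : Type) [AddCommGroup M] (q : ℕ)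
    (h : Subsingleton (EtCoh.H Y' (EtCoh.const Y' M) q)) : Subsingleton (EtCoh.H Y (EtCoh.const Y M) q) := by
  haveI := Groth.Agent.S0642.pull_isEquivalence e.hom
  haveI : PreservesFiniteLimits (EtCoh.pull e.hom) := ⟨fun J _ _ => inferInstance⟩
  have h1 := Groth.Agent.S0642.result e.hom (EtCoh.const Y' M) q
  haveI : Subsingleton ((EtCoh.HF Y q).obj ((EtCoh.pull e.hom).obj (EtCoh.const Y' M))) := h1.2.subsingleton
  exact (((EtCoh.HF Y q).mapIso (EtCore.pullConst e.hom M)).addCommGroupIsoToAddEquiv).symm.subsingleton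

theorem exists_quotient_iso {R : CommRingCat.{u}} {Z : Scheme.{u}} (i : Z ⟶ Spec R) [IsClosedImmersion i] :
    ∃ I : Ideal R, Nonempty (Z ≅ Spec (CommRingCat.of (R ⧸ I))) := by
  obtain ⟨I, e, -⟩ := IsClosedImmersion.Spec_iff.1 (show IsClosedImmersion i from inferInstance)
  exact ⟨I, ⟨e⟩⟩

/-- Gabber: closed subschemes of affine normal integral schemes with separably closed function field. -/
theorem subsingleton_H_closed {Z X : Scheme.{u}} [IsAffine X] [IsIntegral X]
    (hN : ∀ x : X, IsIntegrallyClosed (X.presheaf.stalk x)) [IsSepClosed X.functionField]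
    (i : Z ⟶ X) [IsClosedImmersion i] (M : Type) [AddCommGroup M] [Finite M] (q : ℕ) (hq : 1 ≤ q) :
    Subsingleton (EtCoh.H Z (EtCoh.const Z M) q) := by
  haveI : Nonempty (⊤ : X.Opens) := ⟨⟨Classical.arbitrary X, trivial⟩⟩
  haveI : IsIntegrallyClosed Γ(X, ⊤) := BlowRegLib.isIntegrallyClosed_affine hN (isAffineOpen_top X)
  haveI : IsFractionRing Γ(X, ⊤) X.functionField :=
    functionField_isFractionRing_of_isAffineOpen X ⊤ (isAffineOpen_top X)
  obtain ⟨I, ⟨e⟩⟩ := exists_quotient_iso (i ≫ X.isoSpec.hom)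
  refine subsingleton_H_of_iso e M q ?_
  rcases eq_or_ne I ⊥ with rfl | hI
  · refine subsingleton_H_of_iso (Scheme.Spec.mapIso
      (RingEquiv.quotientBot Γ(X, ⊤)).toCommRingCatIso.op).symm M q ?_
    exact subsingleton_H_of_normal X.functionField M q hq
  · exact subsingleton_H_of_isAIC (isAIC_quotient_of_sepClosed X.functionField I hI) M q hq

/-- Every affine scheme receives an integral surjection from an absolutely integrally closed one. -/
theorem exists_cover (X : Scheme.{u}) [IsAffine X] :
    ∃ (X' : Scheme.{u}) (π : X' ⟶ X) (_ : IsIntegralHom π) (_ : Surjective π),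
      ∀ (Z' : Scheme.{u}) (i : Z' ⟶ X') (_ : IsClosedImmersion i)
        (M : Type) (_ : AddCommGroup M) (_ : Finite M) (q : ℕ), 1 ≤ q →
        Subsingleton (EtCoh.H Z' (EtCoh.const Z' M) q) := by
  let A := Γ(X, ⊤)
  let P := MvPolynomial A ℤ
  let ψ : P →+* A := MvPolynomial.eval₂Hom (Int.castRingHom A) id
  have hψ : Function.Surjective ψ := fun r => ⟨MvPolynomial.X r, MvPolynomial.eval₂Hom_X' _ _ r⟩
  let Ω := AlgebraicClosure (FractionRing P)
  let P' := integralClosure P Ω
  have hinj : Function.Injective (algebraMap P P') := fun a b hab =>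
    (IsFractionRing.injective P (FractionRing P)) ((algebraMap (FractionRing P) Ω).injective (by
      have := congrArg Subtype.val hab
      simpa [← IsScalarTower.algebraMap_apply] using this))
  haveI : Algebra.IsIntegral P P' := IsIntegralClosure.isIntegral_algebra P Ω
  let J : Ideal P' := (RingHom.ker ψ).map (algebraMap P P')
  let B := P' ⧸ J
  let φ : P →+* B := (Ideal.Quotient.mk J).comp (algebraMap P P')
  have hker : RingHom.ker ψ ≤ RingHom.ker φ := fun x hx =>
    Ideal.Quotient.eq_zero_iff_mem.2 (Ideal.mem_map_of_mem _ hx)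
  let ρ : A →+* B := ψ.liftOfSurjective hψ ⟨φ, hker⟩
  have hρ : ρ.comp ψ = φ := RingHom.liftOfRightInverse_comp _ _ _ _
  have hint : ρ.IsIntegral := RingHom.IsIntegral.tower_top (f := ψ) (g := ρ) (by
    rw [hρ]
    exact RingHom.IsIntegral.trans _ _ (algebraMap_isIntegral_iff.2 inferInstance)
      (RingHom.IsIntegral.of_finite (RingHom.Finite.of_surjective _ Ideal.Quotient.mk_surjective)))
  have hsurj : Function.Surjective (PrimeSpectrum.comap ρ) := by
    intro q
    let p : Ideal P := q.asIdeal.comap ψ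
    haveI : p.IsPrime := Ideal.IsPrime.comap ψ
    obtain ⟨Q₀, -, hQ₀, hQ₀p⟩ := Ideal.exists_ideal_over_prime_of_isIntegral (S := P') p ⊥ (by
      rw [← RingHom.ker_eq_comap_bot, (RingHom.injective_iff_ker_eq_bot _).1 hinj]; exact bot_le)
    have hJ : J ≤ Q₀ := Ideal.map_le_iff_le_comap.2 (hQ₀p.symm ▸ fun x hx => by
      show ψ x ∈ q.asIdeal
      rw [show ψ x = 0 from hx]; exact q.asIdeal.zero_mem)
    haveI := Ideal.map_isPrime_of_surjective (f := Ideal.Quotient.mk J) Ideal.Quotient.mk_surjective
      (I := Q₀) (by rwa [Ideal.mk_ker])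
    refine ⟨⟨Q₀.map (Ideal.Quotient.mk J), inferInstance⟩, PrimeSpectrum.ext (Ideal.comap_injective_of_surjective ψ hψ ?_)⟩
    show ((Q₀.map (Ideal.Quotient.mk J)).comap ρ).comap ψ = p
    rw [Ideal.comap_comap, hρ, ← Ideal.comap_comap, Ideal.comap_map_of_surjective _ Ideal.Quotient.mk_surjective,
      ← RingHom.ker_eq_comap_bot, Ideal.mk_ker, sup_eq_left.2 hJ, hQ₀p]
  haveI : IsIntegralHom (Spec.map (CommRingCat.ofHom ρ)) := IsIntegralHom.SpecMap_iff.2 hint
  haveI : Surjective (Spec.map (CommRingCat.ofHom ρ)) := ⟨hsurj⟩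
  refine ⟨Spec (CommRingCat.of B), Spec.map (CommRingCat.ofHom ρ) ≫ X.isoSpec.inv, inferInstance, inferInstance,
    fun Z' i _ M _ _ q hq => ?_⟩
  obtain ⟨I, ⟨e⟩⟩ := exists_quotient_iso i
  refine subsingleton_H_of_iso e M q (subsingleton_H_of_isAIC ?_ M q hq)
  exact isAIC_of_surjective _ Ideal.Quotient.mk_surjective
    (isAIC_of_surjective _ Ideal.Quotient.mk_surjective (isAIC_integralClosure P Ω))

end AicVanishLib
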