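import Groth.Agent.EtShLib.ConstSheaf
import Groth.Agent.EtShLib.StrictLocal
import Groth.Agent.EpsLib.Cartan
import Groth.Prelude.Def_EtZar

/-!
# Sections of étale sheaves on Zariski opens; sections of constant sheaves
-/

set_option autoImplicit false
set_option linter.unusedSectionVars false
set_option linter.style.haveILetI false
set_option backward.isDefEq.respectTransparency false
set_option backward.isDefEq.respectTransparency.types false
set_option synthInstance.maxHeartbeats 400000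
set_option maxHeartbeats 1000000

universe u

open CategoryTheory CategoryTheory.Limits AlgebraicGeometry Opposite TopologicalSpace
open Groth.Agent.EtShLib

noncomputable section

namespace AicVanishLib

variable {X : Scheme.{u}}

/-- An open, as an object of the étale site. -/
abbrev zobj (U : X.Opens) : X.Etale := (EtZar.zarToEt X).obj U

/-- Restriction of sections. -/
def res (F : EtCoh.Ab X) {V U : X.Opens} (h : V ≤ U) : EtCoh.sect F (zobj U) →+ EtCoh.sect F (zobj V) :=
  (F.obj.map ((EtZar.zarToEt X).map (homOfLE h)).op).hom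

theorem res_res (F : EtCoh.Ab X) {W V U : X.Opens} (h : V ≤ U) (h' : W ≤ V) (s : EtCoh.sect F (zobj U)) :
    res F h' (res F h s) = res F (h'.trans h) s := by
  show (F.obj.map _ ≫ F.obj.map _).hom s = _
  rw [← Functor.map_comp, ← op_comp, ← Functor.map_comp]
  rfl

theorem res_refl (F : EtCoh.Ab X) {U : X.Opens} (h : U ≤ U) (s : EtCoh.sect F (zobj U)) : res F h s = s := by
  show (F.obj.map ((EtZar.zarToEt X).map (𝟙 U)).op).hom s = s
  rw [CategoryTheory.Functor.map_id, op_id, CategoryTheory.Functor.map_id]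
  rfl

theorem app_res {F G : EtCoh.Ab X} (α : F ⟶ G) {V U : X.Opens} (h : V ≤ U) (s : EtCoh.sect F (zobj U)) :
    α.hom.app (op (zobj V)) (res F h s) = res G h (α.hom.app (op (zobj U)) s) :=
  NatTrans.naturality_apply α.hom _ s

theorem zobj_hom_ext {T : X.Etale} {U : X.Opens} (a b : T ⟶ zobj U) : a = b :=
  MorphismProperty.Over.Hom.ext ((cancel_mono U.ι).1
    ((MorphismProperty.Over.w a).trans (MorphismProperty.Over.w b).symm))

theorem exists_zobj_hom {T : X.Etale} {U : X.Opens} (h : Set.range T.hom.base ⊆ (U : Set X)) :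
    Nonempty (T ⟶ zobj U) :=
  ⟨MorphismProperty.Over.homMk (IsOpenImmersion.lift U.ι T.hom ((Scheme.Opens.range_ι U).symm ▸ h :))
    (IsOpenImmersion.lift_fac _ _ _)⟩

theorem range_subset {T : X.Etale} {U : X.Opens} (a : T ⟶ zobj U) : Set.range T.hom.base ⊆ (U : Set X) := by
  rintro _ ⟨z, rfl⟩
  rw [← MorphismProperty.Over.w a]
  exact ((a.left.base z : _) : (U : Scheme.{u})).2

theorem map_mk {U V : X.Opens} (h : V ≤ U) (y : (U : Scheme.{u})) (hy : U.ι.base y ∈ V) :
    ((EtZar.zarToEt X).map (homOfLE h)).left.base ⟨U.ι.base y, hy⟩ = y := by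
  refine U.ι.isOpenEmbedding.injective ?_
  show (X.homOfLE h ≫ U.ι).base _ = _
  rw [Scheme.homOfLE_ι]
  rfl

/-- Sections are determined locally. -/
theorem sect_ext (F : EtCoh.Ab X) {U : X.Opens} (s t : EtCoh.sect F (zobj U))
    (h : ∀ x ∈ U, ∃ (V : X.Opens) (hV : V ≤ U), x ∈ V ∧ res F hV s = res F hV t) : s = t := by
  refine res_ext F s t fun (y : (U : Scheme.{u})) => ?_
  obtain ⟨V, hV, hyV, he⟩ := h (U.ι.base y) y.2
  exact ⟨zobj V, (EtZar.zarToEt X).map (homOfLE hV), ⟨⟨U.ι.base y, hyV⟩, map_mk hV y hyV⟩, he⟩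

theorem subsingleton_bot (F : EtCoh.Ab X) {U : X.Opens} (hU : U ≤ ⊥) : Subsingleton (EtCoh.sect F (zobj U)) :=
  ⟨fun s t => sect_ext F s t fun _ hx => (hU hx).elim⟩

/-- Glueing along a cover by opens. -/
theorem exists_glue_opens (F : EtCoh.Ab X) {ι : Type*} (U : ι → X.Opens) (V : X.Opens) (hle : ∀ i, U i ≤ V)
    (hcov : ∀ x ∈ V, ∃ i, x ∈ U i) (t : ∀ i, EtCoh.sect F (zobj (U i)))
    (ht : ∀ i j, res F (inf_le_left : U i ⊓ U j ≤ U i) (t i) = res F (inf_le_right : U i ⊓ U j ≤ U j) (t j)) :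
    ∃ T, ∀ i, res F (hle i) T = t i := by
  have hmem : Sieve.ofArrows (fun i => zobj (U i)) (fun i => (EtZar.zarToEt X).map (homOfLE (hle i))) ∈
      X.smallEtaleTopology (zobj V) := by
    rw [Scheme.ofArrows_mem_smallEtaleTopology_iff]
    refine Set.eq_univ_of_forall fun (y : (V : Scheme.{u})) => ?_
    obtain ⟨i, hi⟩ := hcov (V.ι.base y) y.2
    exact Set.mem_iUnion.2 ⟨i, ⟨V.ι.base y, hi⟩, map_mk (hle i) y hi⟩
  have hsh : (Presieve.ofArrows (fun i => zobj (U i)) (fun i => (EtZar.zarToEt X).map (homOfLE (hle i)))).IsSheafFor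
      (F.obj ⋙ forget AddCommGrpCat.{u + 1}) := by
    rw [Presieve.isSheafFor_iff_generate]
    exact ((isSheaf_iff_isSheaf_of_type _ _).1
      (GrothendieckTopology.HasSheafCompose.isSheaf F.obj F.property)) _ hmem
  obtain ⟨T, hT, -⟩ := (Presieve.isSheafFor_arrows_iff _ _).1 hsh t (fun i j Z a b _ => by
    obtain ⟨c⟩ := exists_zobj_hom (T := Z) (U := U i ⊓ U j) (fun z hz => ⟨range_subset a hz, range_subset b hz⟩)
    rw [zobj_hom_ext a (c ≫ (EtZar.zarToEt X).map (homOfLE inf_le_left)),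
      zobj_hom_ext b (c ≫ (EtZar.zarToEt X).map (homOfLE inf_le_right))]
    simp only [op_comp, Functor.map_comp, ConcreteCategory.comp_apply]
    exact congrArg _ (ht i j))
  exact ⟨T, hT⟩

/-- The morphism to the final object. -/
def toTop (T : X.Etale) : T ⟶ EtCoh.top X := MorphismProperty.Over.homMk T.hom (Category.comp_id _)

theorem toTop_ext {T : X.Etale} (a b : T ⟶ EtCoh.top X) : a = b :=
  (MorphismProperty.Over.mkIdTerminal EtCoh.etaleMP X).hom_ext a b

section Const

variable (M : Type) [AddCommGroup M]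

/-- The constant section with value `m`. -/
def cst (U : X.Opens) : M →+ EtCoh.sect (EtCoh.const X M) (zobj U) :=
  (cstUnit X (AddCommGrpCat.of (ULift.{u + 1} M)) ≫
    (EtCoh.const X M).obj.map (toTop (zobj U)).op).hom.comp AddEquiv.ulift.symm.toAddMonoidHom

theorem res_cst {V U : X.Opens} (h : V ≤ U) (m : M) : res (EtCoh.const X M) h (cst M U m) = cst M V m := by
  show ((EtCoh.const X M).obj.map (toTop (zobj U)).op ≫ (EtCoh.const X M).obj.map _).hom _ = _
  rw [← Functor.map_comp, ← op_comp, toTop_ext ((EtZar.zarToEt X).map (homOfLE h) ≫ toTop (zobj U)) (toTop (zobj V))]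
  rfl

theorem cst_injective {U : X.Opens} {x : X} (hx : x ∈ U) {m m' : M} (h : cst M U m = cst M U m') : m = m' := by
  obtain ⟨Ω, _, _, ξ, u, -⟩ := exists_geometric (U := zobj U) ⟨x, hx⟩
  haveI := (isCst_cstUnit (X := X) (AddCommGrpCat.of (ULift.{u + 1} M))).map (toTop (zobj U)) Ω ξ u
  have hinj := ((ConcreteCategory.isIso_iff_bijective _).1 this).1
  have := congrArg (germ (A := AddCommGrpCat.{u + 1}) ξ (EtCoh.const X M) (zobj U) u) h
  exact congrArg ULift.down (hinj this : (ULift.up m : ULift.{u + 1} M) = ULift.up m')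

theorem exists_local_cst {U : X.Opens} (s : EtCoh.sect (EtCoh.const X M) (zobj U)) {x : X} (hx : x ∈ U) :
    ∃ (W : X.Opens) (hW : W ≤ U) (m : M), x ∈ W ∧ res _ hW s = cst M W m := by
  obtain ⟨Ω, _, _, ξ, u, hu⟩ := exists_geometric (U := zobj U) ⟨x, hx⟩
  haveI := (isCst_cstUnit (X := X) (AddCommGrpCat.of (ULift.{u + 1} M))).map (toTop (zobj U)) Ω ξ u
  obtain ⟨m, hm⟩ := ((ConcreteCategory.isIso_iff_bijective _).1 this).2
    (germ (A := AddCommGrpCat.{u + 1}) ξ (EtCoh.const X M) (zobj U) u s)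
  obtain ⟨m, rfl⟩ : ∃ m' : M, ULift.up m' = m := ⟨m.down, rfl⟩
  obtain ⟨V, g, v, hv, he⟩ := (germ_eq_iff ξ (zobj U) u (cst M U m) s).1 hm
  haveI : AlgebraicGeometry.Etale V.hom := V.prop
  let W : X.Opens := ⟨Set.range V.hom.base, isOpen_range_etale V⟩
  have hWU : W ≤ U := range_subset g
  refine ⟨W, hWU, m, ⟨v.pt, ?_⟩, ?_⟩
  · have h1 : g.left.base v.pt = (⟨x, hx⟩ : (U : Scheme.{u})) := by rw [← hu, ← hv]; rfl
    rw [← MorphismProperty.Over.w g]
    exact congrArg U.ι.base h1
  · obtain ⟨c⟩ := exists_zobj_hom (T := V) (U := W) subset_rfl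
    refine res_ext _ _ _ fun (y : (W : Scheme.{u})) => ⟨V, c, ?_, ?_⟩
    · obtain ⟨z, hz⟩ := (y.2 : W.ι.base y ∈ Set.range V.hom.base)
      refine ⟨z, Subtype.ext ?_⟩
      rw [← hz, ← MorphismProperty.Over.w c]
      rfl
    · rw [← res_cst M hWU]
      have hg : c ≫ (EtZar.zarToEt X).map (homOfLE hWU) = g := zobj_hom_ext _ _
      have key : ∀ z : EtCoh.sect (EtCoh.const X M) (zobj U),
          (EtCoh.const X M).obj.map c.op (res _ hWU z) = (EtCoh.const X M).obj.map g.op z := fun z => by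
        rw [← hg, op_comp, Functor.map_comp, ConcreteCategory.comp_apply]
        rfl
      rw [key, key, he]

/-- The function of a section of a constant sheaf. -/
theorem exists_fun {U : X.Opens} (s : EtCoh.sect (EtCoh.const X M) (zobj U)) :
    ∃ φ : X → M, ∀ x ∈ U, ∃ (W : X.Opens) (hW : W ≤ U), x ∈ W ∧ res _ hW s = cst M W (φ x) ∧
      ∀ y ∈ W, φ y = φ x := by
  classical
  choose W hW m hxW he using fun (x : X) (hx : x ∈ U) => exists_local_cst M s hx
  refine ⟨fun x => if hx : x ∈ U then m x hx else 0, fun x hx => ⟨W x hx, hW x hx, hxW x hx, ?_, fun y hy => ?_⟩⟩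
  · simp only [dif_pos hx, he x hx]
  · simp only [dif_pos hx, dif_pos (hW x hx hy)]
    refine cst_injective M (U := W x hx ⊓ W y (hW x hx hy)) ⟨hy, hxW _ _⟩ ?_
    rw [← res_cst M inf_le_right, ← res_cst M (inf_le_left : W x hx ⊓ W y (hW x hx hy) ≤ _), ← he, ← he,
      res_res, res_res]

/-- Locally constant functions give sections. -/
theorem exists_section {U : X.Opens} (φ : X → M) (hφ : ∀ x ∈ U, ∀ᶠ y in nhds x, φ y = φ x) :
    ∃ s : EtCoh.sect (EtCoh.const X M) (zobj U), ∀ (W : X.Opens) (hW : W ≤ U) (m : M),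
      (∀ y ∈ W, φ y = m) → res _ hW s = cst M W m := by
  let O : M → X.Opens := fun m => ⟨{x | x ∈ U ∧ φ x = m}, isOpen_iff_mem_nhds.2 fun x ⟨hx, hm⟩ => by
    filter_upwards [hφ x hx, U.isOpen.mem_nhds hx] with y hy hyU
    exact ⟨hyU, hy.trans hm⟩⟩
  obtain ⟨T, hT⟩ := exists_glue_opens (EtCoh.const X M) O U (fun m x hx => hx.1) (fun x hx => ⟨φ x, hx, rfl⟩)
    (fun m => cst M (O m) m) (fun i j => by
      rw [res_cst, res_cst]
      by_cases hij : i = j
      · rw [hij]
      · haveI := subsingleton_bot (EtCoh.const X M) (U := O i ⊓ O j) fun x hx =>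
          hij (hx.1.2.symm.trans hx.2.2)
        exact Subsingleton.elim _ _)
  refine ⟨T, fun W hW m hm => ?_⟩
  have hWO : W ≤ O m := fun y hy => ⟨hW hy, hm y hy⟩
  rw [← res_cst M hWO, ← hT m, res_res]

end Const

end AicVanishLib
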